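import Mathlib

set_option autoImplicit false

/-! Orders of elements of `SL_2(q)`. -/

namespace H17.L2Order

open Matrix Polynomial

variable {F : Type*} [Field F]

/-- Cayley–Hamilton for `2 × 2` matrices. -/
theorem sq_eq (M : Matrix (Fin 2) (Fin 2) F) :
    M * M = M.trace • M - M.det • (1 : Matrix (Fin 2) (Fin 2) F) := by
  ext i j
  fin_cases i <;> fin_cases j <;>
    simp [Matrix.mul_apply, Fin.sum_univ_two, Matrix.trace_fin_two, Matrix.det_fin_two] <;> ring

/-- If `v ≠ 0` and `v` is not an eigenvector of `M`, then every vector is a combination of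
`v` and `M v`. -/
theorem exists_comb (M : Matrix (Fin 2) (Fin 2) F) (v : Fin 2 → F) (hv : v ≠ 0)
    (h : ∀ c : F, M *ᵥ v ≠ c • v) (w : Fin 2 → F) : ∃ a b : F, w = a • v + b • (M *ᵥ v) := by
  have hli : LinearIndependent F ![v, M *ᵥ v] := by
    rw [LinearIndependent.pair_iff' hv]
    intro a ha
    exact h a ha.symm
  have hs : ⊤ ≤ Submodule.span F (Set.range ![v, M *ᵥ v]) := by
    have := hli.span_eq_top_of_card_eq_finrank (by simp)
    rw [this]
  have hw := hs (Submodule.mem_top (x := w))
  rw [Matrix.range_cons, Matrix.range_cons, Matrix.range_empty, Set.union_empty,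
    Set.singleton_union, Submodule.mem_span_pair] at hw
  obtain ⟨a, b, hab⟩ := hw
  exact ⟨a, b, hab.symm⟩

/-- `M` satisfies `x² = t x − d`, so does `M ^ q`. -/
theorem pow_card_root [Fintype F] (M : Matrix (Fin 2) (Fin 2) F) (hd : M.det = 1) :
    (M ^ Fintype.card F) * (M ^ Fintype.card F) - M.trace • (M ^ Fintype.card F) + 1 = 0 := by
  set P : F[X] := X ^ 2 - C M.trace * X + 1 with hP
  have h1 : aeval M P = 0 := by
    have h := sq_eq M
    simp only [hP, map_add, map_sub, map_pow, map_mul, aeval_X, aeval_C, map_one]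
    rw [pow_two, h, hd, ← Algebra.smul_def]
    simp
  have h2 : aeval (M ^ Fintype.card F) P = 0 := by
    rw [← expand_aeval, FiniteField.expand_card, map_pow, h1, zero_pow Fintype.card_ne_zero]
  simp only [hP, map_add, map_sub, map_pow, map_mul, aeval_X, aeval_C, map_one,
    ← Algebra.smul_def] at h2
  rw [pow_two] at h2
  exact h2

/-- No eigenvalue: `M ^ q = M` or `M ^ q = M⁻¹`. -/
theorem pow_card_of_irred [Fintype F] (M : Matrix (Fin 2) (Fin 2) F) (hd : M.det = 1)
    (h : ∀ (c : F) (v : Fin 2 → F), v ≠ 0 → M *ᵥ v ≠ c • v) :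
    M ^ Fintype.card F = M ∨ M ^ Fintype.card F * M = 1 := by
  set N := M ^ Fintype.card F with hN
  have hcomm : N * M = M * N := by
    rw [hN, ← pow_succ, ← pow_succ']
  have hMM := sq_eq M
  rw [hd, one_smul] at hMM
  have hroot := pow_card_root M hd
  rw [← hN] at hroot
  -- (N - M) (N M - 1) = 0
  have hprod : (N - M) * (N * M - 1) = 0 := by
    have : (N - M) * (N * M - 1) = (N * N - M.trace • N + 1) * M := by
      have e1 : (N - M) * (N * M - 1) = N * N * M - N - M * N * M + M := by
        noncomm_ring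
      rw [e1, ← hcomm, mul_assoc N M M, hMM]
      simp only [add_mul, sub_mul, mul_sub, smul_mul_assoc, one_mul, mul_one, mul_smul_comm]
      abel
    rw [this, hroot, zero_mul]
  by_cases hz : N = M
  · left; exact hz
  right
  have hdet : (N - M).det ≠ 0 := by
    intro h0
    obtain ⟨v, hv, hv0⟩ := Matrix.exists_mulVec_eq_zero_iff.mpr h0
    apply hz
    rw [← sub_eq_zero]
    have h2 : (N - M) *ᵥ (M *ᵥ v) = 0 := by
      rw [Matrix.mulVec_mulVec, sub_mul, hcomm, ← mul_sub, ← Matrix.mulVec_mulVec, hv0,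
        Matrix.mulVec_zero]
    have h3 : ∀ w, (N - M) *ᵥ w = 0 := by
      intro w
      obtain ⟨a, b, rfl⟩ := exists_comb M v hv (fun c => h c v hv) w
      rw [Matrix.mulVec_add, Matrix.mulVec_smul, Matrix.mulVec_smul, hv0, h2]
      simp
    ext i j
    have := congrFun (h3 (Pi.single j 1)) i
    simpa using this
  have hu : IsUnit (N - M) := (Matrix.isUnit_iff_isUnit_det _).mpr (isUnit_iff_ne_zero.mpr hdet)
  have h4 : N * M - 1 = 0 := by
    exact hu.mul_right_eq_zero.mp hprod
  exact sub_eq_zero.mp h4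

theorem eigen_root (M : Matrix (Fin 2) (Fin 2) F) (c : F) (v : Fin 2 → F) (hv : v ≠ 0)
    (h : M *ᵥ v = c • v) : c * c - M.trace * c + M.det = 0 := by
  have h1 : M *ᵥ (M *ᵥ v) = (c * c) • v := by
    rw [h, Matrix.mulVec_smul, h, smul_smul]
  rw [Matrix.mulVec_mulVec, sq_eq, Matrix.sub_mulVec, Matrix.smul_mulVec, h, Matrix.smul_mulVec,
    Matrix.one_mulVec, smul_smul] at h1
  have h2 : (c * c - M.trace * c + M.det) • v = 0 := by
    rw [add_smul, sub_smul, ← h1]
    abel
  exact (smul_eq_zero.mp h2).resolve_right hv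

theorem split_order [Fintype F] (p : ℕ) [Fact p.Prime] [CharP F p]
    (M : Matrix (Fin 2) (Fin 2) F) (hd : M.det = 1) (c : F)
    (hc : c * c - M.trace * c + 1 = 0) : M ^ (p * (Fintype.card F - 1)) = 1 := by
  have hc0 : c ≠ 0 := by
    rintro rfl
    simp at hc
  have ht : M.trace = c + c⁻¹ := by
    field_simp
    linear_combination -hc
  have hMM := sq_eq M
  rw [hd, one_smul, ht] at hMM
  have hprod : (M - c • 1) * (M - c⁻¹ • 1) = 0 := by
    simp only [mul_sub, sub_mul, hMM, smul_mul_assoc, one_mul, mul_smul_comm, mul_one, smul_sub,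
      smul_smul, mul_inv_cancel₀ hc0, add_smul, one_smul, mul_comm c⁻¹ c]
    abel
  have hq1 : ∀ x : F, x ≠ 0 → x ^ (Fintype.card F - 1) = 1 := fun x hx =>
    FiniteField.pow_card_sub_one_eq_one x hx
  by_cases hcc : c = c⁻¹
  · -- (M - c)² = 0
    rw [← hcc] at hprod
    have h1 : M ^ p = (c ^ p) • (1 : Matrix (Fin 2) (Fin 2) F) := by
      have h2 : M = (M - c • 1) + c • 1 := by abel
      have hcom : Commute (M - c • 1) (c • (1 : Matrix (Fin 2) (Fin 2) F)) := by
        apply Commute.smul_right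
        exact Commute.one_right _
      have : CharP (Matrix (Fin 2) (Fin 2) F) p := Matrix.charP p
      have : ExpChar (Matrix (Fin 2) (Fin 2) F) p := ExpChar.prime Fact.out
      rw [h2, add_pow_expChar_of_commute p hcom]
      have hp2 : 2 ≤ p := (Fact.out : p.Prime).two_le
      have h3 : (M - c • (1 : Matrix (Fin 2) (Fin 2) F)) ^ p = 0 := by
        obtain ⟨k, rfl⟩ := Nat.exists_eq_add_of_le hp2
        rw [pow_add, pow_two, hprod, zero_mul]
      rw [h3, zero_add, _root_.smul_pow, one_pow]
    rw [pow_mul, h1, _root_.smul_pow, one_pow, ← pow_mul, mul_comm p, pow_mul, hq1 c hc0, one_pow,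
      one_smul]
  · have h1 : M ^ (Fintype.card F - 1) = 1 := by
      have hdvd : (X - C c) * (X - C c⁻¹) ∣ (X ^ (Fintype.card F - 1) - 1 : F[X]) := by
        apply IsCoprime.mul_dvd
        · exact isCoprime_X_sub_C_of_isUnit_sub (isUnit_iff_ne_zero.mpr (sub_ne_zero.mpr hcc))
        · rw [dvd_iff_isRoot]; simp [hq1 c hc0]
        · rw [dvd_iff_isRoot]; simp only [IsRoot.def, eval_sub, eval_pow, eval_X, eval_one]
          rw [hq1 _ (inv_ne_zero hc0), sub_self]
      obtain ⟨R, hR⟩ := hdvd
      have h2 := congrArg (aeval M) hR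
      simp only [map_sub, map_pow, map_mul, aeval_X, aeval_C, map_one] at h2
      have h3 : ∀ a : F, (algebraMap F (Matrix (Fin 2) (Fin 2) F)) a = a • 1 :=
        fun a => Algebra.algebraMap_eq_smul_one a
      rw [h3, h3, hprod, zero_mul] at h2
      exact sub_eq_zero.mp h2
    rw [mul_comm, pow_mul, h1, one_pow]

theorem sl_ext (a b : Matrix.SpecialLinearGroup (Fin 2) F)
    (h : (a : Matrix (Fin 2) (Fin 2) F) = (b : Matrix (Fin 2) (Fin 2) F)) : a = b := by
  apply Matrix.SpecialLinearGroup.ext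
  intro i j
  exact congrFun (congrFun h i) j

/-- Orders of elements in `SL_2(q)` prime to the characteristic. -/
theorem order_dvd [Fintype F] (p : ℕ) [Fact p.Prime] [CharP F p]
    (g : Matrix.SpecialLinearGroup (Fin 2) F) (hg : Nat.Coprime (orderOf g) p) :
    orderOf g ∣ Fintype.card F - 1 ∨ orderOf g ∣ Fintype.card F + 1 := by
  have hq : 1 < Fintype.card F := Fintype.one_lt_card
  by_cases h : ∃ (c : F) (v : Fin 2 → F), v ≠ 0 ∧ (g : Matrix (Fin 2) (Fin 2) F) *ᵥ v = c • v
  · obtain ⟨c, v, hv, hcv⟩ := h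
    have h1 := eigen_root _ c v hv hcv
    rw [g.2] at h1
    have h2 := split_order p (g : Matrix (Fin 2) (Fin 2) F) g.2 c h1
    left
    have h3 : g ^ (p * (Fintype.card F - 1)) = 1 := by
      apply sl_ext
      rw [Matrix.SpecialLinearGroup.coe_pow, h2, Matrix.SpecialLinearGroup.coe_one]
    exact hg.dvd_of_dvd_mul_left (orderOf_dvd_of_pow_eq_one h3)
  · push Not at h
    rcases pow_card_of_irred (g : Matrix (Fin 2) (Fin 2) F) g.2 h with h1 | h1
    · left
      apply orderOf_dvd_of_pow_eq_one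
      have h2 : g ^ Fintype.card F = g := by
        apply sl_ext
        rw [Matrix.SpecialLinearGroup.coe_pow, h1]
      have h3 : g ^ (Fintype.card F - 1) * g = 1 * g := by
        rw [← pow_succ, Nat.sub_add_cancel hq.le, h2, one_mul]
      exact mul_right_cancel h3
    · right
      apply orderOf_dvd_of_pow_eq_one
      apply sl_ext
      rw [pow_succ, Matrix.SpecialLinearGroup.coe_mul, Matrix.SpecialLinearGroup.coe_pow, h1,
        Matrix.SpecialLinearGroup.coe_one]

end H17.L2Order
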