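import Cfsg.Agent.Lib.H17.SubfieldPSL
import Cfsg.Agent.Lib.H17.L2Order
import Cfsg.Agent.Lib.H6.SmallIsoA
import Cfsg.Agent.S3378

set_option autoImplicit false
set_option linter.unusedSectionVars false

/-! Alternating subgroups of degree 5 in `PSL₂(q)`, `q` odd, `5 ∣ q² - 1`. -/

namespace H17.PSL2Five

open Matrix H45.SL2

variable {F : Type*} [Field F]

theorem sq_mat (A : SpecialLinearGroup (Fin 2) F) :
    A.1 * A.1 = tr A • A.1 - (1 : Matrix (Fin 2) (Fin 2) F) := by
  have h := H17.L2Order.sq_eq A.1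
  rw [A.2, one_smul] at h
  rw [h]
  congr 2
  rw [Matrix.trace_fin_two]; rfl

theorem val_pow (A : SpecialLinearGroup (Fin 2) F) (n : ℕ) : (A ^ n).1 = A.1 ^ n :=
  Matrix.SpecialLinearGroup.coe_pow A n

/-- Trace of an element of order 5. -/
theorem tr_of_pow_five {Y : SpecialLinearGroup (Fin 2) F} (h5 : Y ^ 5 = 1) (h1 : Y ≠ 1) :
    tr Y ^ 2 + tr Y - 1 = 0 := by
  set t := tr Y with ht
  have e2 : Y.1 ^ 2 = t • Y.1 - 1 := by rw [pow_two, sq_mat]
  have e3 : Y.1 ^ 3 = (t ^ 2 - 1) • Y.1 - t • 1 := by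
    rw [pow_succ, e2, sub_mul, smul_mul_assoc, ← pow_two, e2, one_mul, smul_sub, smul_smul]
    rw [sub_smul, one_smul, ← pow_two]
    abel
  have e5 : Y.1 ^ 5 = (t ^ 4 - 3 * t ^ 2 + 1) • Y.1 - (t ^ 3 - 2 * t) • 1 := by
    have : Y.1 ^ 5 = Y.1 ^ 3 * Y.1 ^ 2 := by rw [← pow_add]
    rw [this, e3, e2]
    rw [sub_mul, mul_sub, mul_one, smul_mul_smul_comm, ← pow_two, e2, smul_mul_assoc, one_mul]
    exact (by module)
  have e5' : Y.1 ^ 5 = 1 := by
    rw [← val_pow, h5]; rfl
  rw [e5'] at e5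
  -- `(t⁴ - 3t² + 1) Y = (t³ - 2t + 1) 1`
  have e6 : (t ^ 4 - 3 * t ^ 2 + 1) • Y.1 = (t ^ 3 - 2 * t + 1) • (1 : Matrix (Fin 2) (Fin 2) F) := by
    rw [add_smul (t ^ 3 - 2 * t), one_smul, add_comm ((t ^ 3 - 2 * t) • (1 : Matrix (Fin 2) (Fin 2) F))]
    exact eq_add_of_sub_eq e5.symm
  by_contra hne
  have hf : t ^ 4 - 3 * t ^ 2 + 1 = (t ^ 2 + t - 1) * (t ^ 2 - t - 1) := by ring
  have hg : t ^ 3 - 2 * t + 1 = (t ^ 2 + t - 1) * (t - 1) := by ring
  rw [hf, hg, mul_smul, mul_smul] at e6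
  have e7 : (t ^ 2 - t - 1) • Y.1 = (t - 1) • (1 : Matrix (Fin 2) (Fin 2) F) :=
    smul_right_injective _ hne e6
  -- `Y` is scalar or `t² - t - 1 = 0 = t - 1`
  have h01 := congrFun (congrFun e7 0) 1
  have h10 := congrFun (congrFun e7 1) 0
  have h00 := congrFun (congrFun e7 0) 0
  have h11 := congrFun (congrFun e7 1) 1
  simp only [Matrix.smul_apply, one_apply_ne (show (0 : Fin 2) ≠ 1 by decide),
    one_apply_ne (show (1 : Fin 2) ≠ 0 by decide), one_apply_eq, smul_eq_mul, mul_zero, mul_one]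
    at h01 h10 h00 h11
  by_cases hz : t ^ 2 - t - 1 = 0
  · rw [hz, zero_mul] at h00
    have h8 : t = 1 := by linear_combination -h00
    rw [h8] at hz
    exact one_ne_zero (show (1 : F) = 0 by linear_combination -hz)
  · have h01' : Y.1 0 1 = 0 := (mul_eq_zero.mp h01).resolve_left hz
    have h10' : Y.1 1 0 = 0 := (mul_eq_zero.mp h10).resolve_left hz
    have heq : Y.1 0 0 = Y.1 1 1 := mul_left_cancel₀ hz (h00.trans h11.symm)
    rcases scalar_iff h01' h10' heq with h | h
    · exact h1 h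
    · rw [h] at h5
      have h9 : (-1 : Matrix (Fin 2) (Fin 2) F) ^ 5 = 1 := by
        have := val_pow (-1 : SpecialLinearGroup (Fin 2) F) 5
        rw [h5] at this
        exact this.symm
      have h10 : ((-1 : Matrix (Fin 2) (Fin 2) F)) ^ 5 = -1 := by
        rw [Odd.neg_one_pow (by decide)]
      have h11 : (-1 : SpecialLinearGroup (Fin 2) F) = 1 := by
        apply Subtype.ext
        exact h10.symm.trans h9
      exact h1 (by rw [h, h11])

/-- `A₅` inside `PSL₂(q)`. -/
theorem exists_A5 [Fintype F] (hodd : Odd (Fintype.card F)) (h5 : 5 ∣ Fintype.card F ^ 2 - 1) :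
    ∃ H : Subgroup (ProjectiveSpecialLinearGroup (Fin 2) F),
      Nonempty (H ≃* alternatingGroup (Fin 5)) := by
  classical
  have h2 : (2 : F) ≠ 0 := H45.SL2.two_ne_zero_of_odd hodd
  have hF2 : ringChar F ≠ 2 := by
    intro h
    have := ringChar.Nat.cast_ringChar (R := F)
    rw [h] at this
    exact h2 (by exact_mod_cast this)
  have h5' : Fact (Nat.Prime 5) := ⟨by norm_num⟩
  have hcard : Nat.card (SpecialLinearGroup (Fin 2) F) =
      Fintype.card F * (Fintype.card F - 1) * (Fintype.card F + 1) := H45.SL2.card_SL2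
  obtain ⟨Y, hY⟩ : ∃ Y : SpecialLinearGroup (Fin 2) F, orderOf Y = 5 := by
    apply exists_prime_orderOf_dvd_card' 5
    rw [hcard]
    have : 1 ≤ Fintype.card F := Fintype.card_pos
    have e : Fintype.card F ^ 2 - 1 = (Fintype.card F - 1) * (Fintype.card F + 1) := by
      have h3 : 1 ≤ Fintype.card F ^ 2 := Nat.one_le_pow _ _ this
      zify [h3, this]; ring
    rw [mul_assoc, ← e]
    exact Dvd.dvd.mul_left h5 _
  have hY5 : Y ^ 5 = 1 := by rw [← hY]; exact pow_orderOf_eq_one Y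
  have hY1 : Y ≠ 1 := by
    rintro rfl
    rw [orderOf_one] at hY
    omega
  have hYm1 : Y ≠ -1 := by
    rintro rfl
    have h3 : ((-1 : SpecialLinearGroup (Fin 2) F)) ^ 2 = 1 := by
      rw [pow_two, neg_mul_neg, one_mul]
    have h4 := orderOf_dvd_of_pow_eq_one h3
    rw [hY] at h4
    omega
  have ht := tr_of_pow_five hY5 hY1
  have ht4 : tr Y ^ 2 ≠ 4 := by
    intro h
    have h3 : (tr Y - 2) * (tr Y + 2) = 0 := by linear_combination h
    have h5F : (5 : F) ≠ 0 := by
      intro h50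
      have h6 : ringChar F ∣ 5 := (ringChar.spec F 5).mp (by exact_mod_cast h50)
      have hr5 : ringChar F = 5 := by
        rcases (Nat.dvd_prime h5'.out).mp h6 with h7 | h7
        · exfalso
          have := ringChar.Nat.cast_ringChar (R := F)
          rw [h7, Nat.cast_one] at this
          exact one_ne_zero this
        · exact h7
      have h7 : CharP F 5 := by rw [← hr5]; exact ringChar.charP F
      obtain ⟨k, -, hk⟩ := FiniteField.card F 5
      rw [hk] at h5
      have h8 : 5 ∣ (5 ^ (k : ℕ)) ^ 2 := dvd_pow (dvd_pow_self 5 k.ne_zero) (by norm_num)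
      have h9 : 1 ≤ (5 ^ (k : ℕ)) ^ 2 := Nat.one_le_pow _ _ (by positivity)
      omega
    rcases mul_eq_zero.mp h3 with h4 | h4
    · have h6 : tr Y = 2 := by linear_combination h4
      rw [h6] at ht
      exact h5F (by linear_combination ht)
    · have h6 : tr Y = -2 := by linear_combination h4
      rw [h6] at ht
      exact one_ne_zero (show (1 : F) = 0 by linear_combination ht)
  obtain ⟨X, hX, hXY⟩ := exists_two_traces hF2 Y ⟨hY1, hYm1⟩ (-1) 0 (Or.inl ht4)
  have hX3 : X ^ 3 = 1 := by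
    apply Subtype.ext
    refine (val_pow X 3).trans ?_
    change X.1 ^ 3 = 1
    rw [pow_succ, pow_two, sq_mat, hX]
    rw [sub_mul, smul_mul_assoc, sq_mat, hX, one_mul]
    exact (by module)
  have hXY2 : (X * Y) ^ 2 = -1 := by
    apply Subtype.ext
    refine (val_pow (X * Y) 2).trans ?_
    rw [pow_two, sq_mat, hXY, zero_smul, zero_sub]
    rfl
  -- the homomorphism
  obtain ⟨e⟩ := Cfsg.Agent.S3378.sl_iso
  have hker : ∀ r ∈ Cfsg.Agent.S3378.rels, FreeGroup.lift (![X, Y, -1]) r = 1 := by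
    rintro r (rfl | rfl | rfl | rfl | rfl | hr)
    · simp only [map_pow, FreeGroup.lift_apply_of]; exact hX3
    · simp only [map_pow, FreeGroup.lift_apply_of]; exact hY5
    · simp only [map_pow, FreeGroup.lift_apply_of]
      change (-1 : SpecialLinearGroup (Fin 2) F) ^ 2 = 1
      rw [pow_two, neg_mul_neg, one_mul]
    · simp only [map_mul, map_inv, FreeGroup.lift_apply_of]
      refine (Cfsg.Agent.S3378.comm_iff X (-1)).mpr ?_
      rw [neg_one_mul, mul_neg_one]
    · simp only [map_mul, map_inv, FreeGroup.lift_apply_of]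
      refine (Cfsg.Agent.S3378.comm_iff Y (-1)).mpr ?_
      rw [neg_one_mul, mul_neg_one]
    · rw [Set.mem_singleton_iff.mp hr]
      simp only [map_pow, map_mul, map_inv, FreeGroup.lift_apply_of]
      exact mul_inv_eq_one.mpr hXY2
  let φ : PresentedGroup Cfsg.Agent.S3378.rels →* SpecialLinearGroup (Fin 2) F :=
    PresentedGroup.toGroup hker
  have hφ1 : φ (PresentedGroup.of 1) = Y := by simp only [φ, PresentedGroup.toGroup.of]; rfl
  let ψ : SpecialLinearGroup (Fin 2) (ZMod 5) →* ProjectiveSpecialLinearGroup (Fin 2) F :=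
    (QuotientGroup.mk' _).comp (φ.comp e.symm.toMonoidHom)
  have hψ : ∀ x, ψ x = H17.QuatPair.pr (φ (e.symm x)) := fun x => rfl
  have hcen : Subgroup.center (SpecialLinearGroup (Fin 2) (ZMod 5)) ≤ ψ.ker := by
    intro c hc
    rw [MonoidHom.mem_ker, hψ, H17.QuatPair.pr_eq_one]
    apply H58.SL2Prod.eq_one_or_neg_one_of_sq h2
    rw [← map_mul, ← map_mul]
    have hc2 : c * c = 1 := by
      rw [mem_center_iff] at hc
      rcases hc with rfl | rfl
      · rw [one_mul]
      · rw [neg_mul_neg, one_mul]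
    rw [hc2, map_one, map_one]
  let χ : ProjectiveSpecialLinearGroup (Fin 2) (ZMod 5) →* ProjectiveSpecialLinearGroup (Fin 2) F :=
    QuotientGroup.lift _ ψ (fun x hx => MonoidHom.mem_ker.mp (hcen hx))
  have hsimple : IsSimpleGroup (ProjectiveSpecialLinearGroup (Fin 2) (ZMod 5)) :=
    Matrix.ProjectiveSpecialLinearGroup.rank_two_simple (by rw [Nat.card_zmod]; norm_num)
  have hinj : Function.Injective χ := by
    rw [← MonoidHom.ker_eq_bot_iff]
    rcases hsimple.eq_bot_or_eq_top_of_normal χ.ker inferInstance with h | h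
    · exact h
    · exfalso
      have h3 : (QuotientGroup.mk (e (PresentedGroup.of 1)) :
          ProjectiveSpecialLinearGroup (Fin 2) (ZMod 5)) ∈ χ.ker := by rw [h]; trivial
      rw [MonoidHom.mem_ker] at h3
      have h4 : ψ (e (PresentedGroup.of 1)) = 1 := h3
      rw [hψ, e.symm_apply_apply, hφ1, H17.QuatPair.pr_eq_one] at h4
      exact h4.elim hY1 hYm1
  obtain ⟨f⟩ := H6.SmallIsoA.psl2_five (F := ZMod 5) (ZMod.card 5)
  exact H17.SubfieldPSL.exists_subgroup (χ.comp f.symm.toMonoidHom) (hinj.comp f.symm.injective)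

end H17.PSL2Five
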