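import Cfsg.Agent.Lib.H17.PSL2Four

set_option autoImplicit false
set_option linter.unusedSectionVars false

/-! Restrictions on subgroups `A₄`, `S₄`, `A₅` of `PSL₂(q)`. -/

namespace H17.PSL2Four

open Matrix H45.SL2 H58.SL2Prod H17.FourGrp H17.QuatPair

variable {F : Type*} [Field F]

local notation "SL2" F => SpecialLinearGroup (Fin 2) F
local notation "PSL2" F => ProjectiveSpecialLinearGroup (Fin 2) F

section CharTwo
variable [CharP F 2]

theorem neg_one_eq : (-1 : SL2 F) = 1 := by
  have h2 : (2 : F) = 0 := CharTwo.two_eq_zero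
  apply ext4
  · rw [neg_ij, one_00]; linear_combination -h2
  · rw [neg_ij, one_01]; ring
  · rw [neg_ij, one_10]; ring
  · rw [neg_ij, one_11]; linear_combination -h2

theorem pr_inj {z z' : SL2 F} : pr z = pr z' ↔ z = z' := by
  rw [pr_eq]
  constructor
  · rintro (h | h)
    · exact h
    · rw [h, ← mul_one (z'), ← mul_neg, neg_one_eq]
  · intro h; exact Or.inl h

theorem pr_one_iff {z : SL2 F} : pr z = 1 ↔ z = 1 := by
  rw [pr_eq_one, neg_one_eq, or_self]

/-- Cayley-Hamilton. -/
theorem sq_eq (z : SL2 F) : z.1 * z.1 = tr z • z.1 - 1 := by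
  have hd := det_eq z
  ext i j
  fin_cases i <;> fin_cases j
  · simp [Matrix.mul_apply, Fin.sum_univ_two, tr]; linear_combination -hd
  · simp [Matrix.mul_apply, Fin.sum_univ_two, tr]; ring
  · simp [Matrix.mul_apply, Fin.sum_univ_two, tr]; ring
  · simp [Matrix.mul_apply, Fin.sum_univ_two, tr]; linear_combination -hd

/-- In characteristic two there are no elements of order four in `SL₂`. -/
theorem sq_of_pow_four {z : SL2 F} (h : z ^ 4 = 1) : z * z = 1 := by
  have h2 : (2 : F) = 0 := CharTwo.two_eq_zero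
  have hzz : (z * z) * (z * z) = 1 := by rw [← h, ← pow_two, ← pow_two, ← pow_mul]
  -- trace of `z²` is `tr² - 2 = tr²`
  have key : ∀ y : SL2 F, y * y = 1 → tr y = 0 := by
    intro y hy
    have h3 := sq_eq y
    have h4 : y.1 * y.1 = 1 := congrArg Subtype.val hy
    rw [h4] at h3
    have h5 : tr y • y.1 = 0 := by
      have : tr y • y.1 = 1 + 1 := (sub_eq_iff_eq_add.mp h3.symm)
      rw [this]
      ext i j
      have : (1 + 1 : Matrix (Fin 2) (Fin 2) F) i j = 2 * (1 : Matrix (Fin 2) (Fin 2) F) i j := by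
        rw [Matrix.add_apply]; ring
      rw [this, h2, zero_mul]; rfl
    rcases smul_eq_zero.mp h5 with h6 | h6
    · exact h6
    · have h7 := y.2
      rw [h6, det_zero] at h7
      exact absurd h7 zero_ne_one
  have h3 := key _ hzz
  have h4 : tr (z * z) = tr z ^ 2 := by
    have hd := det_eq z
    rw [tr_mul]
    unfold tr
    linear_combination (-2 : F) * hd + (-1 : F) * h2
  rw [h4] at h3
  have h5 : tr z = 0 := by simpa using h3
  rw [sq_of_tr_zero h5, neg_one_eq]

/-- The main configuration: commuting involutions `a`, `b` with `t a t⁻¹ = b`, `t³ = 1`. -/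
theorem exists_omega {a b t : SL2 F} (ha : a * a = 1) (hb : b * b = 1) (hab : a * b = b * a)
    (ha1 : a ≠ 1) (hne : a ≠ b) (ht : t ^ 3 = 1) (htab : t * a * t⁻¹ = b) :
    ∃ w : F, w ^ 2 + w + 1 = 0 := by
  have h2 : (2 : F) = 0 := CharTwo.two_eq_zero
  have hb1 : b ≠ 1 := by
    rintro rfl
    apply ha1
    have : a = t⁻¹ * (t * a * t⁻¹) * t := by group
    rw [this, htab]; group
  -- a fixed vector of `a`
  have hfix : ∀ y : SL2 F, y * y = 1 → ∃ v : Fin 2 → F, v ≠ 0 ∧ y.1 *ᵥ v = v := by
    intro y hy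
    have hdet : (y.1 - 1).det = 0 := by
      have h3 : (y.1 - 1) * (y.1 - 1) = 0 := by
        have h4 : y.1 * y.1 = 1 := congrArg Subtype.val hy
        rw [sub_mul, mul_sub, h4, one_mul, mul_one]
        ext i j
        have e : (1 - y.1 - (y.1 - 1) : Matrix (Fin 2) (Fin 2) F) i j =
            2 * ((1 : Matrix (Fin 2) (Fin 2) F) i j - y.1 i j) := by
          simp only [Matrix.sub_apply]; ring
        rw [e, h2, zero_mul]; rfl
      have h4 := congrArg Matrix.det h3
      rw [det_mul, det_zero] at h4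
      simpa using h4
    obtain ⟨v, hv, hv'⟩ := Matrix.exists_mulVec_eq_zero_iff.mpr hdet
    refine ⟨v, hv, ?_⟩
    rw [sub_mulVec, one_mulVec, sub_eq_zero] at hv'
    exact hv'
  -- uniqueness of the fixed line of a non-identity element
  have hline : ∀ (y : SL2 F), y ≠ 1 → ∀ v v' : Fin 2 → F, v ≠ 0 → y.1 *ᵥ v = v →
      y.1 *ᵥ v' = v' → ∃ c : F, v' = c • v := by
    intro y hy v v' hv hyv hyv'
    by_contra hcon
    push Not at hcon
    apply hy
    have hli : LinearIndependent F ![v, v'] := by
      rw [LinearIndependent.pair_iff' hv]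
      intro c hc
      exact hcon c hc.symm
    have hb : Submodule.span F (Set.range ![v, v']) = ⊤ :=
      hli.span_eq_top_of_card_eq_finrank' (by simp)
    apply Subtype.ext
    apply Matrix.ext_of_mulVec_single
    intro i
    have hmem : (Pi.single i 1 : Fin 2 → F) ∈ Submodule.span F (Set.range ![v, v']) := by
      rw [hb]; trivial
    have e : Set.range ![v, v'] = {v, v'} := by
      simp [Matrix.range_cons, Set.pair_comm]
    rw [e] at hmem
    obtain ⟨c, d, hcd⟩ := Submodule.mem_span_pair.mp hmem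
    change y.1 *ᵥ _ = (1 : Matrix (Fin 2) (Fin 2) F) *ᵥ _
    rw [one_mulVec, ← hcd, mulVec_add, mulVec_smul, mulVec_smul, hyv, hyv']
  obtain ⟨v, hv, hav⟩ := hfix a ha
  -- `b v = v`
  have hbv : b.1 *ᵥ v = v := by
    have h3 : a.1 *ᵥ (b.1 *ᵥ v) = b.1 *ᵥ v := by
      rw [mulVec_mulVec, show a.1 * b.1 = b.1 * a.1 from congrArg Subtype.val hab,
        ← mulVec_mulVec, hav]
    obtain ⟨c, hc⟩ := hline a ha1 v (b.1 *ᵥ v) hv hav h3
    have h4 : (b.1 * b.1) *ᵥ v = v := by
      rw [show b.1 * b.1 = 1 from congrArg Subtype.val hb, one_mulVec]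
    rw [← mulVec_mulVec, hc, mulVec_smul, hc, smul_smul] at h4
    have h5 : c * c = 1 := by
      have : (c * c - 1) • v = 0 := by rw [sub_smul, one_smul, h4, sub_self]
      rcases smul_eq_zero.mp this with h6 | h6
      · linear_combination h6
      · exact absurd h6 hv
    have h6 : c = 1 := by
      have : (c - 1) * (c - 1) = 0 := by linear_combination h5 - (c - 1) * h2
      have := mul_self_eq_zero.mp this
      linear_combination this
    rw [hc, h6, one_smul]
  -- `t v = λ v`
  have htv : b.1 *ᵥ (t.1 *ᵥ v) = t.1 *ᵥ v := by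
    have h3 : b * t = t * a := by rw [← htab]; group
    rw [mulVec_mulVec, show b.1 * t.1 = t.1 * a.1 from congrArg Subtype.val h3,
      ← mulVec_mulVec, hav]
  obtain ⟨l, hl⟩ := hline b hb1 v (t.1 *ᵥ v) hv hbv htv
  have hl3 : l ^ 3 = 1 := by
    have h3 : (t.1 * t.1 * t.1) *ᵥ v = v := by
      have : t * t * t = 1 := by rw [← ht, pow_succ, pow_two]
      rw [show t.1 * t.1 * t.1 = 1 from congrArg Subtype.val this, one_mulVec]
    rw [← mulVec_mulVec, ← mulVec_mulVec, hl, mulVec_smul, hl, mulVec_smul, mulVec_smul, hl,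
      smul_smul, smul_smul] at h3
    have : (l * l * l - 1) • v = 0 := by rw [sub_smul, one_smul, h3, sub_self]
    rcases smul_eq_zero.mp this with h6 | h6
    · linear_combination h6
    · exact absurd h6 hv
  by_cases hl1 : l = 1
  · exfalso
    -- then `t` has trace zero and `t² = 1`
    have hdet : (t.1 - 1).det = 0 := by
      rw [← Matrix.exists_mulVec_eq_zero_iff]
      refine ⟨v, hv, ?_⟩
      rw [sub_mulVec, one_mulVec, hl, hl1, one_smul, sub_self]
    have htr : tr t = 0 := by
      have hd := det_eq t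
      rw [det_fin_two] at hdet
      simp only [Matrix.sub_apply, one_apply_eq, ne_eq, zero_ne_one, not_false_eq_true,
        one_apply_ne, one_ne_zero] at hdet
      unfold tr
      linear_combination hd - hdet + h2
    have h3 := sq_of_tr_zero htr
    rw [neg_one_eq] at h3
    have h4 : t = 1 := by
      have : t = t ^ 3 * (t * t)⁻¹ := by rw [pow_succ, pow_two]; group
      rw [this, ht, h3]; group
    apply hne
    rw [← htab, h4]; group
  · refine ⟨l, ?_⟩
    have : (l - 1) * (l ^ 2 + l + 1) = 0 := by linear_combination hl3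
    exact (mul_eq_zero.mp this).resolve_left (sub_ne_zero.mpr hl1)

end CharTwo

end H17.PSL2Four
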