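import Cfsg.Agent.Lib.H17.SpInvol
import Cfsg.Agent.Lib.H16.Symp
import Cfsg.Agent.Lib.H6.SympPerfect

set_option autoImplicit false
set_option linter.unusedSectionVars false

/-! Classes of elements of order at most two in `PSp`, odd characteristic. -/

namespace H17.PSpInvol

open Module Matrix H95.SpBasic H95.SpGeom H17.SpInvol H16.Symp

variable {F : Type*} [Field F]

theorem even_finrank {V : Type*} [AddCommGroup V] [Module F V] [FiniteDimensional F V]
    {B : LinearMap.BilinForm F V} (hB : B.IsAlt) : ∀ (n : ℕ) (U : Submodule F V),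
    (∀ v ∈ U, (∀ w ∈ U, B v w = 0) → v = 0) → finrank F U = n → Even n := by
  intro n
  induction n using Nat.strong_induction_on with
  | _ n ih =>
    intro U hnd hU
    by_cases hn : n = 0
    · subst hn; exact ⟨0, rfl⟩
    · obtain ⟨u, hu, v, hv, huv⟩ := exists_hyp B U hnd (by
        intro h; rw [h, finrank_bot] at hU; omega)
      have hf := orth2_finrank hB hu hv huv
      have h1 := ih (finrank F (orth2 B U u v)) (by omega) (orth2 B U u v)
        (orth2_nondeg hB hnd hu hv huv) rfl
      obtain ⟨r, hr⟩ := h1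
      exact ⟨r + 1, by omega⟩

variable {m : ℕ}

/-- The linear map of a symplectic matrix. -/
noncomputable def mlin (g : symplecticGroup (Fin m) F) :
    (Fin m ⊕ Fin m → F) →ₗ[F] (Fin m ⊕ Fin m → F) := Matrix.mulVecLin g.1

theorem mlin_apply (g : symplecticGroup (Fin m) F) (x : Fin m ⊕ Fin m → F) :
    mlin g x = g.1 *ᵥ x := rfl

theorem mlin_mul (g h : symplecticGroup (Fin m) F) (x : Fin m ⊕ Fin m → F) :
    mlin (g * h) x = mlin g (mlin h x) := by
  rw [mlin_apply, mlin_apply, mlin_apply, mulVec_mulVec]; rfl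

theorem mlin_one (x : Fin m ⊕ Fin m → F) : mlin (1 : symplecticGroup (Fin m) F) x = x := by
  rw [mlin_apply]; exact one_mulVec x

theorem mlin_form (g : symplecticGroup (Fin m) F) (x y : Fin m ⊕ Fin m → F) :
    sympBilin m F (mlin g x) (mlin g y) = sympBilin m F x y :=
  (mem_symplecticGroup_iff g.1).mp g.2 x y

theorem ext_mlin {g h : symplecticGroup (Fin m) F} (H : ∀ x, mlin g x = mlin h x) : g = h := by
  apply Subtype.ext
  apply Matrix.ext_of_mulVec_single
  intro i
  exact H _

theorem alt : (sympBilin m F).IsAlt := fun x => sympForm_self x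

theorem nd : ∀ v : Fin m ⊕ Fin m → F, (∀ w, sympBilin m F v w = 0) → v = 0 := by
  intro v h
  exact eq_zero_of_forall_sympForm_right (fun u => h u)

/-- A linear isometry as a symplectic matrix. -/
theorem exists_lift (k : (Fin m ⊕ Fin m → F) ≃ₗ[F] (Fin m ⊕ Fin m → F))
    (hk : ∀ x y, sympBilin m F (k x) (k y) = sympBilin m F x y) :
    ∃ g : symplecticGroup (Fin m) F, ∀ x, mlin g x = k x := by
  have h1 : ∀ x, (LinearMap.toMatrix' (k : (Fin m ⊕ Fin m → F) →ₗ[F] (Fin m ⊕ Fin m → F))) *ᵥ x =
      k x := by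
    intro x
    rw [LinearMap.toMatrix'_mulVec]; rfl
  refine ⟨⟨LinearMap.toMatrix' (k : (Fin m ⊕ Fin m → F) →ₗ[F] (Fin m ⊕ Fin m → F)), ?_⟩, ?_⟩
  · rw [mem_symplecticGroup_iff]
    intro u v
    rw [h1, h1]
    exact hk u v
  · intro x
    exact h1 x

variable [Finite F]

theorem finrank_V : finrank F (Fin m ⊕ Fin m → F) = 2 * m := by
  rw [Module.finrank_fintype_fun_eq_card]
  simp [two_mul]

theorem sq_cases [NeZero m] (s : symplecticGroup (Fin m) F)
    (hs : s * s ∈ Subgroup.center (symplecticGroup (Fin m) F)) :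
    (∀ x, mlin s (mlin s x) = x) ∨ (∀ x, mlin s (mlin s x) = -x) := by
  rw [H6.SympPerfect.mem_center_iff] at hs
  obtain ⟨c, hc, hs⟩ := hs
  have h1 : ∀ x, mlin s (mlin s x) = c • x := by
    intro x
    rw [← mlin_mul]
    exact hs x
  rcases sq_eq_one_iff.mp hc with rfl | rfl
  · left; intro x; rw [h1, one_smul]
  · right; intro x; rw [h1, neg_smul, one_smul]

/-- A linear isometry conjugating `s` to `t` gives conjugate images in `PSp`. -/
theorem isConj_of_equiv (s t : symplecticGroup (Fin m) F)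
    (k : (Fin m ⊕ Fin m → F) ≃ₗ[F] (Fin m ⊕ Fin m → F))
    (hk : ∀ x y, sympBilin m F (k x) (k y) = sympBilin m F x y)
    (hst : ∀ x, k (mlin s x) = mlin t (k x)) :
    IsConj (QuotientGroup.mk s : Cfsg.PSp m F) (QuotientGroup.mk t : Cfsg.PSp m F) := by
  obtain ⟨g, hg⟩ := exists_lift k hk
  have h1 : g * s = t * g := by
    apply ext_mlin
    intro x
    rw [mlin_mul, mlin_mul, hg, hg, hst]
  rw [isConj_iff]
  refine ⟨QuotientGroup.mk g, ?_⟩
  rw [← QuotientGroup.mk_mul, ← QuotientGroup.mk_inv, ← QuotientGroup.mk_mul, h1,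
    mul_inv_cancel_right]

/-- Both square to `-1`. -/
theorem isConj_neg (h2 : (2 : F) ≠ 0) (s t : symplecticGroup (Fin m) F)
    (hs : ∀ x, mlin s (mlin s x) = -x) (ht : ∀ x, mlin t (mlin t x) = -x) :
    IsConj (QuotientGroup.mk s : Cfsg.PSp m F) (QuotientGroup.mk t : Cfsg.PSp m F) := by
  obtain ⟨k, hk, hk'⟩ := conj_of_sq_neg_one h2 (sympBilin m F) alt nd (mlin s) (mlin t)
    (mlin_form s) (mlin_form t) hs ht
  exact isConj_of_equiv s t k hk hk'

/-- Both square to `1`, same dimension. -/
theorem isConj_pos (h2 : (2 : F) ≠ 0) (s t : symplecticGroup (Fin m) F)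
    (hs : ∀ x, mlin s (mlin s x) = x) (ht : ∀ x, mlin t (mlin t x) = x)
    (hd : finrank F (neg (mlin s)) = finrank F (neg (mlin t))) :
    IsConj (QuotientGroup.mk s : Cfsg.PSp m F) (QuotientGroup.mk t : Cfsg.PSp m F) := by
  obtain ⟨k, hk, hk'⟩ := conj_of_sq_one h2 (sympBilin m F) alt nd (mlin s) (mlin t)
    (mlin_form s) (mlin_form t) hs ht hd
  exact isConj_of_equiv s t k hk hk'

/-- Existence of `-t`. -/
theorem exists_neg [NeZero m] (t : symplecticGroup (Fin m) F) :
    ∃ t' : symplecticGroup (Fin m) F, (∀ x, mlin t' x = -mlin t x) ∧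
      (QuotientGroup.mk t' : Cfsg.PSp m F) = QuotientGroup.mk t := by
  obtain ⟨z, hz⟩ := exists_lift (m := m) (F := F) (LinearEquiv.neg F) (by
    intro x y
    simp only [LinearEquiv.neg_apply, map_neg, LinearMap.neg_apply, neg_neg])
  have hzc : z ∈ Subgroup.center (symplecticGroup (Fin m) F) := by
    rw [H6.SympPerfect.mem_center_iff]
    refine ⟨-1, by ring, fun u => ?_⟩
    have := hz u
    rw [neg_smul, one_smul]
    exact this
  refine ⟨t * z, ?_, ?_⟩
  · intro x
    rw [mlin_mul, hz, LinearEquiv.neg_apply, map_neg]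
  · rw [QuotientGroup.mk_mul, (QuotientGroup.eq_one_iff z).mpr hzc, mul_one]

theorem isConj_pos' [NeZero m] (h2 : (2 : F) ≠ 0) (s t : symplecticGroup (Fin m) F)
    (hs : ∀ x, mlin s (mlin s x) = x) (ht : ∀ x, mlin t (mlin t x) = x)
    (hd : finrank F (neg (mlin s)) + finrank F (neg (mlin t)) = 2 * m) :
    IsConj (QuotientGroup.mk s : Cfsg.PSp m F) (QuotientGroup.mk t : Cfsg.PSp m F) := by
  obtain ⟨t', ht', htt⟩ := exists_neg t
  rw [← htt]
  apply isConj_pos h2 s t' hs
  · intro x
    rw [ht', ht', map_neg, neg_neg, ht]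
  · have h1 : neg (mlin t') = pos (mlin t) := by
      ext x
      rw [mem_neg, mem_pos, ht', neg_inj]
    have h3 := finrank_neg_add_pos h2 ht
    rw [finrank_V] at h3
    rw [h1]
    omega

open Classical in
/-- The classifying invariant. -/
noncomputable def cls (s : symplecticGroup (Fin m) F) : Option ℕ :=
  if ∀ x, mlin s (mlin s x) = -x then none
  else some (min (finrank F (neg (mlin s)) / 2) (m - finrank F (neg (mlin s)) / 2))

theorem isConj_of_cls [NeZero m] (h2 : (2 : F) ≠ 0) (s t : symplecticGroup (Fin m) F)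
    (hs : s * s ∈ Subgroup.center (symplecticGroup (Fin m) F))
    (ht : t * t ∈ Subgroup.center (symplecticGroup (Fin m) F)) (h : cls s = cls t) :
    IsConj (QuotientGroup.mk s : Cfsg.PSp m F) (QuotientGroup.mk t : Cfsg.PSp m F) := by
  unfold cls at h
  split_ifs at h with h1 h3 h3
  · exact isConj_neg h2 s t h1 h3
  · have hs' := (sq_cases s hs).resolve_right h1
    have ht' := (sq_cases t ht).resolve_right h3
    obtain ⟨a, ha⟩ := even_finrank alt _ (neg (mlin s)) (neg_nondeg nd h2 (mlin_form s) hs') rfl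
    obtain ⟨b, hb⟩ := even_finrank alt _ (neg (mlin t)) (neg_nondeg nd h2 (mlin_form t) ht') rfl
    have h4 := Submodule.finrank_le (neg (mlin s))
    have h5 := Submodule.finrank_le (neg (mlin t))
    rw [finrank_V] at h4 h5
    rw [Option.some.injEq, ha, hb] at h
    have h6 : a = b ∨ a + b = m := by omega
    rcases h6 with h6 | h6
    · exact isConj_pos h2 s t hs' ht' (by omega)
    · exact isConj_pos' h2 s t hs' ht' (by omega)

theorem cls_lt (s : symplecticGroup (Fin m) F) (n : ℕ) (h : cls s = some n) : n < m / 2 + 1 := by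
  unfold cls at h
  split_ifs at h
  rw [Option.some.injEq] at h
  omega

/-- At most `m / 2 + 2` elements of order at most two of `PSp` are pairwise non-conjugate. -/
theorem card_le [NeZero m] (h2 : (2 : F) ≠ 0) (n : ℕ) (x : Fin n → Cfsg.PSp m F)
    (hx : ∀ i, x i * x i = 1) (hinj : ∀ i j, IsConj (x i) (x j) → i = j) : n ≤ m / 2 + 2 := by
  choose s hs using fun i => QuotientGroup.mk_surjective (x i)
  have hss : ∀ i, s i * s i ∈ Subgroup.center (symplecticGroup (Fin m) F) := by
    intro i
    rw [← QuotientGroup.eq_one_iff, QuotientGroup.mk_mul, hs, hx]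
  let f : Fin n → Option (Fin (m / 2 + 1)) := fun i =>
    match h : cls (s i) with
    | none => none
    | some k => some ⟨k, cls_lt (s i) k h⟩
  have hf : ∀ i, (f i).map Fin.val = cls (s i) := by
    intro i
    simp only [f]
    split
    · rename_i h; rw [h]; rfl
    · rename_i k h; exact h.symm
  have hfinj : Function.Injective f := by
    intro i j hij
    apply hinj
    rw [← hs i, ← hs j]
    apply isConj_of_cls h2 _ _ (hss i) (hss j)
    rw [← hf, ← hf, hij]
  have := Fintype.card_le_of_injective f hfinj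
  simpa using this

end H17.PSpInvol
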