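import Mathlib
import Cfsg.Prelude.Def_Classical
import Cfsg.Prelude.Def_ClassicalGeometry
import Cfsg.Agent.Lib.H17.OrthDet
import Cfsg.Agent.Lib.H7.HypOrd
import Cfsg.Agent.Lib.H7.MinusOrd

set_option autoImplicit false
set_option linter.unusedSectionVars false

/-! Transfer of isometry groups along isomorphisms of fields; small orthogonal groups as symmetric groups. -/

namespace H17.SmallOrth

open Matrix

/-- A permutation representation from an action given by a function. -/
theorem exists_permHom {G X : Type*} [Group G] (act : G → X → X) (one : ∀ x, act 1 x = x)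
    (mul : ∀ g h x, act (g * h) x = act g (act h x)) :
    ∃ f : G →* Equiv.Perm X, ∀ g x, f g x = act g x := by
  let _ : MulAction G X := { smul := act, one_smul := one, mul_smul := mul }
  exact ⟨MulAction.toPermHom G X, fun g x => rfl⟩

/-- A faithful action on `n` points of a group of order `n!`. -/
theorem perm_of_faithful {G X : Type*} [Group G] [Finite X] (n : ℕ) (hX : Nat.card X = n)
    (hG : Nat.card G = n.factorial) (f : G →* Equiv.Perm X) (hf : Function.Injective f) :
    Nonempty (G ≃* Equiv.Perm (Fin n)) := by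
  classical
  have := Fintype.ofFinite X
  have hb : Function.Bijective f := by
    rw [Nat.bijective_iff_injective_and_card]
    refine ⟨hf, ?_⟩
    rw [hG, Nat.card_eq_fintype_card, Fintype.card_perm, ← Nat.card_eq_fintype_card, hX]
  have e : X ≃ Fin n := Finite.equivFinOfCardEq hX
  exact ⟨(MulEquiv.ofBijective f hb).trans e.permCongrHom⟩

section transfer

variable {K F : Type*} [Field K] [Field F] {ι : Type} [Fintype ι] [DecidableEq ι]

/-- The map of general linear groups. -/
def glMap (σ : K ≃+* F) : GeneralLinearGroup ι K ≃* GeneralLinearGroup ι F :=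
  Units.mapEquiv (σ.mapMatrix (m := ι)).toMulEquiv

theorem glMap_apply (σ : K ≃+* F) (g : GeneralLinearGroup ι K) (i j : ι) :
    (glMap σ g).1 i j = σ (g.1 i j) := rfl

theorem glMap_mulVec (σ : K ≃+* F) (g : GeneralLinearGroup ι K) (v : ι → K) :
    (glMap σ g).1 *ᵥ (fun i => σ (v i)) = fun i => σ ((g.1 *ᵥ v) i) := by
  funext i
  simp only [mulVec, dotProduct, glMap_apply, map_sum, map_mul]

theorem map_isometryGroup (σ : K ≃+* F) (Q : (ι → K) → K) (Q' : (ι → F) → F)
    (h : ∀ v : ι → K, Q' (fun i => σ (v i)) = σ (Q v)) :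
    (Cfsg.isometryGroup K Q).map (glMap σ).toMonoidHom = Cfsg.isometryGroup F Q' := by
  ext g
  rw [Subgroup.mem_map]
  constructor
  · rintro ⟨x, hx, rfl⟩
    rw [H17.OrthDet.mem_isometryGroup_iff] at hx ⊢
    intro v
    have h1 : v = fun i => σ (σ.symm (v i)) := by funext i; simp
    change Q' ((glMap σ x).1 *ᵥ v) = Q' v
    rw [h1, glMap_mulVec, h, h, hx]
  · intro hg
    refine ⟨(glMap σ).symm g, ?_, (glMap σ).apply_symm_apply g⟩
    rw [H17.OrthDet.mem_isometryGroup_iff] at hg ⊢
    intro v
    apply σ.injective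
    rw [← h, ← h, ← glMap_mulVec, (glMap σ).apply_symm_apply, hg]

theorem equiv_isometryGroup (σ : K ≃+* F) (Q : (ι → K) → K) (Q' : (ι → F) → F)
    (h : ∀ v : ι → K, Q' (fun i => σ (v i)) = σ (Q v)) :
    Nonempty (Cfsg.isometryGroup K Q ≃* Cfsg.isometryGroup F Q') :=
  ⟨((glMap σ).subgroupMap (Cfsg.isometryGroup K Q)).trans
    (MulEquiv.subgroupCongr (map_isometryGroup σ Q Q' h))⟩

end transfer

theorem exists_ringEquiv_zmod {F : Type*} [Field F] [Fintype F] (p : ℕ) [Fact p.Prime]
    (h : Fintype.card F = p) : Nonempty (ZMod p ≃+* F) := by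
  have hp : p.Prime := Fact.out
  exact ⟨ZMod.ringEquivOfPrime F hp h⟩

end H17.SmallOrth
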