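import Cfsg.Agent.Lib.H95.SpGeom
import Cfsg.Agent.Lib.H48.QuadStd

set_option autoImplicit false
set_option linter.unusedSectionVars false

/-! Conjugacy in symplectic groups (odd characteristic) of elements squaring to `1` or `-1`. -/

namespace H17.SpInvol

open Module H95.SpBasic H95.SpGeom

variable {F V : Type*} [Field F] [AddCommGroup V] [Module F V]

/-- The `-1`-eigenspace. -/
def neg (g : V →ₗ[F] V) : Submodule F V := LinearMap.ker (g + LinearMap.id)

/-- The `1`-eigenspace. -/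
def pos (g : V →ₗ[F] V) : Submodule F V := LinearMap.ker (g - LinearMap.id)

theorem mem_neg {g : V →ₗ[F] V} {x : V} : x ∈ neg g ↔ g x = -x := by
  rw [neg, LinearMap.mem_ker, LinearMap.add_apply, LinearMap.id_apply, add_eq_zero_iff_eq_neg]

theorem mem_pos {g : V →ₗ[F] V} {x : V} : x ∈ pos g ↔ g x = x := by
  rw [pos, LinearMap.mem_ker, LinearMap.sub_apply, LinearMap.id_apply, sub_eq_zero]

theorem sub_mem_neg {g : V →ₗ[F] V} (hg : ∀ x, g (g x) = x) (c : F) (x : V) :
    c • (x - g x) ∈ neg g := by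
  rw [mem_neg, map_smul, map_sub, hg, ← smul_neg, neg_sub]

theorem add_mem_pos {g : V →ₗ[F] V} (hg : ∀ x, g (g x) = x) (c : F) (x : V) :
    c • (x + g x) ∈ pos g := by
  rw [mem_pos, map_smul, map_add, hg, add_comm]

theorem decomp (h2 : (2 : F) ≠ 0) (g : V →ₗ[F] V) (x : V) :
    x = (2 : F)⁻¹ • (x - g x) + (2 : F)⁻¹ • (x + g x) := by
  rw [← smul_add, show x - g x + (x + g x) = (2 : F) • x by rw [two_smul]; abel, smul_smul,
    inv_mul_cancel₀ h2, one_smul]

theorem ortho {B : LinearMap.BilinForm F V} (h2 : (2 : F) ≠ 0) {g : V →ₗ[F] V}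
    (hg : ∀ x y, B (g x) (g y) = B x y) {x y : V} (hx : x ∈ neg g) (hy : y ∈ pos g) :
    B x y = 0 := by
  rw [mem_neg] at hx
  rw [mem_pos] at hy
  have h := hg x y
  rw [hx, hy, map_neg, LinearMap.neg_apply] at h
  have h3 : (2 : F) * B x y = 0 := by linear_combination -h
  exact (mul_eq_zero.mp h3).resolve_left h2

theorem ortho' {B : LinearMap.BilinForm F V} (h2 : (2 : F) ≠ 0) {g : V →ₗ[F] V}
    (hg : ∀ x y, B (g x) (g y) = B x y) {x y : V} (hx : x ∈ pos g) (hy : y ∈ neg g) :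
    B x y = 0 := by
  rw [mem_pos] at hx
  rw [mem_neg] at hy
  have h := hg x y
  rw [hx, hy, map_neg] at h
  have h3 : (2 : F) * B x y = 0 := by linear_combination -h
  exact (mul_eq_zero.mp h3).resolve_left h2

theorem neg_nondeg {B : LinearMap.BilinForm F V} (hnd : ∀ v, (∀ w, B v w = 0) → v = 0)
    (h2 : (2 : F) ≠ 0) {g : V →ₗ[F] V} (hg : ∀ x y, B (g x) (g y) = B x y)
    (hgg : ∀ x, g (g x) = x) : ∀ v ∈ neg g, (∀ w ∈ neg g, B v w = 0) → v = 0 := by
  intro v hv h
  apply hnd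
  intro w
  rw [decomp h2 g w, map_add, h _ (sub_mem_neg hgg _ _), ortho h2 hg hv (add_mem_pos hgg _ _),
    add_zero]

theorem pos_nondeg {B : LinearMap.BilinForm F V} (hnd : ∀ v, (∀ w, B v w = 0) → v = 0)
    (h2 : (2 : F) ≠ 0) {g : V →ₗ[F] V} (hg : ∀ x y, B (g x) (g y) = B x y)
    (hgg : ∀ x, g (g x) = x) : ∀ v ∈ pos g, (∀ w ∈ pos g, B v w = 0) → v = 0 := by
  intro v hv h
  apply hnd
  intro w
  rw [decomp h2 g w, map_add, h _ (add_mem_pos hgg _ _), ortho' h2 hg hv (sub_mem_neg hgg _ _),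
    add_zero]

theorem finrank_neg_add_pos [FiniteDimensional F V] (h2 : (2 : F) ≠ 0) {g : V →ₗ[F] V}
    (hgg : ∀ x, g (g x) = x) : finrank F (neg g) + finrank F (pos g) = finrank F V := by
  have h1 : neg g ⊓ pos g = ⊥ := by
    rw [eq_bot_iff]
    rintro x ⟨hx1, hx2⟩
    have a := mem_neg.mp hx1
    have b := mem_pos.mp hx2
    rw [a] at b
    have : (2 : F) • x = 0 := by rw [two_smul]; nth_rewrite 1 [← b]; abel
    rw [Submodule.mem_bot]
    exact (smul_eq_zero.mp this).resolve_left h2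
  have h3 : neg g ⊔ pos g = ⊤ := by
    rw [eq_top_iff]
    intro x _
    rw [decomp h2 g x]
    exact Submodule.add_mem_sup (sub_mem_neg hgg _ _) (add_mem_pos hgg _ _)
  have := Submodule.finrank_sup_add_finrank_inf_eq (neg g) (pos g)
  rw [h1, h3, finrank_top, finrank_bot] at this
  omega

theorem to_equiv [FiniteDimensional F V] {B : LinearMap.BilinForm F V}
    (hnd : ∀ v, (∀ w, B v w = 0) → v = 0) (k : V →ₗ[F] V) (hk : ∀ x y, B (k x) (k y) = B x y) :
    ∃ k' : V ≃ₗ[F] V, ∀ x, k' x = k x := by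
  have hinj : Function.Injective k := by
    rw [← LinearMap.ker_eq_bot, LinearMap.ker_eq_bot']
    intro x hx
    apply hnd
    intro w
    rw [← hk, hx]; simp
  exact ⟨LinearEquiv.ofInjectiveEndo k hinj, fun x => rfl⟩

/-- Involutions of a symplectic group with `-1`-eigenspaces of the same dimension are conjugate. -/
theorem conj_of_sq_one [FiniteDimensional F V] (h2 : (2 : F) ≠ 0) (B : LinearMap.BilinForm F V)
    (hB : B.IsAlt) (hnd : ∀ v, (∀ w, B v w = 0) → v = 0) (g h : V →ₗ[F] V)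
    (hg : ∀ x y, B (g x) (g y) = B x y) (hh : ∀ x y, B (h x) (h y) = B x y)
    (hgg : ∀ x, g (g x) = x) (hhh : ∀ x, h (h x) = x)
    (hd : finrank F (neg g) = finrank F (neg h)) :
    ∃ k : V ≃ₗ[F] V, (∀ x y, B (k x) (k y) = B x y) ∧ ∀ x, k (g x) = h (k x) := by
  obtain ⟨e₁, he₁, he₁'⟩ := exists_isometry_aux B B hB hB _ (neg g) (neg h)
    (neg_nondeg hnd h2 hg hgg) (neg_nondeg hnd h2 hh hhh) hd rfl
  have hd' : finrank F (pos g) = finrank F (pos h) := by
    have h3 := finrank_neg_add_pos h2 hgg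
    have h4 := finrank_neg_add_pos h2 hhh
    omega
  obtain ⟨e₂, he₂, he₂'⟩ := exists_isometry_aux B B hB hB _ (pos g) (pos h)
    (pos_nondeg hnd h2 hg hgg) (pos_nondeg hnd h2 hh hhh) hd' rfl
  let k : V →ₗ[F] V := e₁ ∘ₗ ((2 : F)⁻¹ • (LinearMap.id - g)) +
    e₂ ∘ₗ ((2 : F)⁻¹ • (LinearMap.id + g))
  have hk : ∀ x, k x = e₁ ((2 : F)⁻¹ • (x - g x)) + e₂ ((2 : F)⁻¹ • (x + g x)) := fun x => rfl
  have hkB : ∀ x y, B (k x) (k y) = B x y := by
    intro x y
    have m1 := sub_mem_neg hgg (2 : F)⁻¹ x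
    have m2 := add_mem_pos hgg (2 : F)⁻¹ x
    have n1 := sub_mem_neg hgg (2 : F)⁻¹ y
    have n2 := add_mem_pos hgg (2 : F)⁻¹ y
    rw [hk, hk, map_add, map_add, LinearMap.add_apply, LinearMap.add_apply, he₁' _ m1 _ n1,
      he₂' _ m2 _ n2, ortho h2 hh (he₁ _ m1) (he₂ _ n2), ortho' h2 hh (he₂ _ m2) (he₁ _ n1)]
    conv_rhs => rw [decomp h2 g x, decomp h2 g y, map_add, map_add, LinearMap.add_apply,
      LinearMap.add_apply, ortho h2 hg m1 n2, ortho' h2 hg m2 n1]
  obtain ⟨k', hk'⟩ := to_equiv hnd k hkB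
  refine ⟨k', fun x y => by rw [hk', hk', hkB], fun x => ?_⟩
  have m1 := sub_mem_neg hgg (2 : F)⁻¹ x
  have m2 := add_mem_pos hgg (2 : F)⁻¹ x
  rw [hk', hk', hk, hk, map_add, mem_neg.mp (he₁ _ m1), mem_pos.mp (he₂ _ m2), hgg, add_comm (g x) x,
    ← map_neg, ← smul_neg, neg_sub]

/-- Elements squaring to `-1`: key induction. -/
theorem conj_neg_aux [Finite F] [FiniteDimensional F V] (h2 : (2 : F) ≠ 0)
    (B : LinearMap.BilinForm F V) (hB : B.IsAlt) (g h : V →ₗ[F] V)
    (hg : ∀ x y, B (g x) (g y) = B x y) (hh : ∀ x y, B (h x) (h y) = B x y)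
    (hgg : ∀ x, g (g x) = -x) (hhh : ∀ x, h (h x) = -x) :
    ∀ (n : ℕ) (U U' : Submodule F V),
    (∀ v ∈ U, (∀ w ∈ U, B v w = 0) → v = 0) → (∀ v ∈ U', (∀ w ∈ U', B v w = 0) → v = 0) →
    (∀ x ∈ U, g x ∈ U) → (∀ x ∈ U', h x ∈ U') →
    finrank F U = n → finrank F U' = n →
    ∃ e : V →ₗ[F] V, (∀ x ∈ U, e x ∈ U') ∧ (∀ x ∈ U, ∀ y ∈ U, B (e x) (e y) = B x y) ∧
      ∀ x ∈ U, e (g x) = h (e x) := by
  -- existence of a good vector
  have key : ∀ (g : V →ₗ[F] V), (∀ x y, B (g x) (g y) = B x y) → (∀ x, g (g x) = -x) →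
      ∀ (U : Submodule F V), (∀ v ∈ U, (∀ w ∈ U, B v w = 0) → v = 0) → (∀ x ∈ U, g x ∈ U) →
      U ≠ ⊥ → ∃ u ∈ U, B u (g u) = 1 := by
    intro g hg hgg U hnd hU hne
    let φ : U →ₗ[F] U := g.restrict hU
    have hφ : ∀ x : U, ((φ x : U) : V) = g x := fun x => rfl
    let C : LinearMap.BilinForm F U := (B.domRestrict₁₂ U U).compl₂ φ
    have hC : ∀ x y : U, C x y = B (x : V) (g y) := fun x y => rfl
    let Q : QuadraticForm F U := LinearMap.BilinMap.toQuadraticMap C
    have hQ : ∀ x : U, Q x = B (x : V) (g x) := fun x => rfl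
    have hpol : ∀ x y : U, QuadraticMap.polar Q x y = 2 * B (x : V) (g y) := by
      intro x y
      rw [QuadraticMap.polar, hQ, hQ, hQ]
      have e1 : B (y : V) (g x) = B (x : V) (g y) := by
        rw [← hg (y : V) (g x), hgg, map_neg]
        rw [LinearMap.BilinForm.IsAlt.neg_eq hB]
      simp only [Submodule.coe_add, map_add, LinearMap.add_apply]
      rw [e1]; ring
    have hND : H48.QuadSplit.ND Q := by
      intro x hx
      apply Subtype.ext
      apply hnd _ x.2
      intro w hw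
      have h3 := hx (φ ⟨w, hw⟩)
      rw [hpol, hφ] at h3
      have h4 := (mul_eq_zero.mp h3).resolve_left h2
      rw [hgg, map_neg, neg_eq_zero] at h4
      exact h4
    have hdim : 2 ≤ finrank F U := by
      obtain ⟨u, hu, v, hv, huv⟩ := exists_hyp B U hnd hne
      have := orth2_finrank hB hu hv huv
      omega
    obtain ⟨u, hu⟩ := H48.QuadStd.exists_eq hND hdim (one_ne_zero (α := F))
    exact ⟨u, u.2, hu⟩
  intro n
  induction n using Nat.strong_induction_on with
  | _ n ih =>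
    intro U U' hnd hnd' hUg hUh hU hU'
    by_cases hn : n = 0
    · subst hn
      have h1 : U = ⊥ := Submodule.finrank_eq_zero.1 hU
      refine ⟨0, fun x hx => by simp, fun x hx y hy => ?_, fun x hx => by simp⟩
      rw [h1, Submodule.mem_bot] at hx
      simp [hx]
    · obtain ⟨u, hu, huv⟩ := key g hg hgg U hnd hUg (by
        intro h; rw [h, finrank_bot] at hU; omega)
      obtain ⟨u', hu', huv'⟩ := key h hh hhh U' hnd' hUh (by
        intro h; rw [h, finrank_bot] at hU'; omega)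
      have hv := hUg u hu
      have hv' := hUh u' hu'
      have hf := orth2_finrank hB hu hv huv
      have hf' := orth2_finrank hB hu' hv' huv'
      have inv1 : ∀ x ∈ orth2 B U u (g u), g x ∈ orth2 B U u (g u) := by
        intro x hx
        rw [mem_orth2] at hx ⊢
        refine ⟨hUg x hx.1, ?_, ?_⟩
        · rw [← hg, hgg, map_neg, LinearMap.neg_apply, hx.2.2, neg_zero]
        · rw [hg, hx.2.1]
      have inv2 : ∀ x ∈ orth2 B U' u' (h u'), h x ∈ orth2 B U' u' (h u') := by
        intro x hx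
        rw [mem_orth2] at hx ⊢
        refine ⟨hUh x hx.1, ?_, ?_⟩
        · rw [← hh, hhh, map_neg, LinearMap.neg_apply, hx.2.2, neg_zero]
        · rw [hh, hx.2.1]
      obtain ⟨e, he1, he2, he3⟩ := ih (finrank F (orth2 B U u (g u))) (by omega)
        (orth2 B U u (g u)) (orth2 B U' u' (h u')) (orth2_nondeg hB hnd hu hv huv)
        (orth2_nondeg hB hnd' hu' hv' huv') inv1 inv2 rfl (by omega)
      have g1 : B u' u' = 0 := hB u'
      have g2 : B (h u') (h u') = 0 := hB (h u')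
      have g3 : B (h u') u' = -1 := by rw [← LinearMap.BilinForm.IsAlt.neg_eq hB u' (h u'), huv']
      have f1 : B u u = 0 := hB u
      have f2 : B (g u) (g u) = 0 := hB (g u)
      have f3 : B (g u) u = -1 := by rw [← LinearMap.BilinForm.IsAlt.neg_eq hB u (g u), huv]
      let P : V →ₗ[F] V := LinearMap.id - (B.flip (g u)).smulRight u +
        (B.flip u).smulRight (g u)
      have hP : ∀ x, P x = x - B x (g u) • u + B x u • g u := fun x => rfl
      let e' : V →ₗ[F] V := (B.flip (g u)).smulRight u' - (B.flip u).smulRight (h u') + e ∘ₗ P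
      have he' : ∀ x, e' x = B x (g u) • u' - B x u • h u' + e (P x) := fun x => rfl
      have hPm : ∀ x ∈ U, P x ∈ orth2 B U u (g u) := fun x hx => by
        rw [hP]; exact orth2_decomp hB hu hv huv hx
      refine ⟨e', ?_, ?_, ?_⟩
      · intro x hx
        rw [he']
        have := (mem_orth2.1 (he1 _ (hPm x hx))).1
        exact U'.add_mem (U'.sub_mem (U'.smul_mem _ hu') (U'.smul_mem _ hv')) this
      · intro x hx y hy
        have hx1 := mem_orth2.1 (he1 _ (hPm x hx))
        have hy1 := mem_orth2.1 (he1 _ (hPm y hy))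
        have hxy := he2 _ (hPm x hx) _ (hPm y hy)
        have hy2 : B u' (e (P y)) = 0 := by
          rw [← LinearMap.BilinForm.IsAlt.neg_eq hB, hy1.2.1, neg_zero]
        have hy3 : B (h u') (e (P y)) = 0 := by
          rw [← LinearMap.BilinForm.IsAlt.neg_eq hB, hy1.2.2, neg_zero]
        rw [he', he']
        simp only [map_add, map_sub, map_smul, LinearMap.add_apply, LinearMap.sub_apply,
          LinearMap.smul_apply, smul_eq_mul, g1, g2, g3, huv', hx1.2.1, hx1.2.2, hy2, hy3, hxy]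
        have hvy : B (g u) y = - B y (g u) := (LinearMap.BilinForm.IsAlt.neg_eq hB y (g u)).symm
        have huy : B u y = - B y u := (LinearMap.BilinForm.IsAlt.neg_eq hB y u).symm
        rw [hP, hP]
        simp only [map_add, map_sub, map_smul, LinearMap.add_apply, LinearMap.sub_apply,
          LinearMap.smul_apply, smul_eq_mul, f1, f2, f3, huv, hvy, huy]
        ring
      · intro x hx
        have e1 : B (g x) (g u) = B x u := hg x u
        have e2 : B (g x) u = -B x (g u) := by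
          rw [← hg (g x) u, hgg, map_neg, LinearMap.neg_apply]
        have e3 : P (g x) = g (P x) := by
          rw [hP, hP, e1, e2, map_add, map_sub, map_smul, map_smul, hgg]
          module
        rw [he', he', e1, e2, e3, he3 _ (hPm x hx), map_add, map_sub, map_smul, map_smul, hhh]
        module

/-- Elements of a symplectic group (odd characteristic, finite field) squaring to `-1` are
conjugate. -/
theorem conj_of_sq_neg_one [Finite F] [FiniteDimensional F V] (h2 : (2 : F) ≠ 0)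
    (B : LinearMap.BilinForm F V) (hB : B.IsAlt) (hnd : ∀ v, (∀ w, B v w = 0) → v = 0)
    (g h : V →ₗ[F] V) (hg : ∀ x y, B (g x) (g y) = B x y) (hh : ∀ x y, B (h x) (h y) = B x y)
    (hgg : ∀ x, g (g x) = -x) (hhh : ∀ x, h (h x) = -x) :
    ∃ k : V ≃ₗ[F] V, (∀ x y, B (k x) (k y) = B x y) ∧ ∀ x, k (g x) = h (k x) := by
  obtain ⟨e, -, he2, he3⟩ := conj_neg_aux h2 B hB g h hg hh hgg hhh _ ⊤ ⊤
    (fun v _ hv => hnd v fun w => hv w trivial) (fun v _ hv => hnd v fun w => hv w trivial)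
    (fun x _ => trivial) (fun x _ => trivial) rfl rfl
  have hB' : ∀ x y, B (e x) (e y) = B x y := fun x y => he2 x trivial y trivial
  obtain ⟨k, hk⟩ := to_equiv hnd e hB'
  exact ⟨k, fun x y => by rw [hk, hk, hB'], fun x => by rw [hk, hk, he3 x trivial]⟩

end H17.SpInvol
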