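import Mathlib
import Cfsg.Agent.Lib.H17.PSpInvol
import Cfsg.Agent.Lib.H46.OrthDec
import Cfsg.Agent.Lib.H46.OrdPSp

set_option autoImplicit false
set_option linter.unusedSectionVars false

/-! Changing the symmetry type of a form fixed by a semisimple isometry, and related tools. -/

namespace H17.SpecConv

open Module H46.SForm H46.SForm.SForm H46.ProdUnit H46.OrdPSp

section Twist

variable {F V : Type*} [Field F] [AddCommGroup V] [Module F V]

/-- The form `(a, b) ↦ B ((u - u⁻¹) a) b`. -/
def tw (f : SForm F V (RingHom.id F)) (u : (Module.End F V)ˣ) : SForm F V (RingHom.id F) where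
  B := fun a b => f.B ((u : Module.End F V) a - ((u⁻¹ : (Module.End F V)ˣ) : Module.End F V) a) b
  add_left := fun a b c => by
    rw [map_add, map_add, ← f.add_left]
    congr 1
    abel
  add_right := fun a b c => f.add_right _ _ _
  smul_left := fun c a b => by
    rw [map_smul, map_smul, ← smul_sub, f.smul_left]
  smul_right := fun c a b => f.smul_right _ _ _

theorem tw_B (f : SForm F V (RingHom.id F)) (u : (Module.End F V)ˣ) (a b : V) :
    (tw f u).B a b =
      f.B ((u : Module.End F V) a - ((u⁻¹ : (Module.End F V)ˣ) : Module.End F V) a) b := rfl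

theorem tw_sym {f : SForm F V (RingHom.id F)} {ε : F} (hs : f.Sym ε)
    {u : (Module.End F V)ˣ} (hu : f.Isom u) : (tw f u).Sym (-ε) := by
  intro a b
  have h1 := hu.adj b a
  have h2 := hu.inv.adj b a
  rw [inv_inv] at h2
  rw [tw_B, tw_B, f.sub_left, h1, h2, hs (((u⁻¹ : (Module.End F V)ˣ) : Module.End F V) a) b,
    hs ((u : Module.End F V) a) b, f.sub_left]
  simp only [RingHom.id_apply]
  ring

theorem tw_nd {f : SForm F V (RingHom.id F)} (hnd : f.ND) {u : (Module.End F V)ˣ}
    (h : ∀ v, (u : Module.End F V) v = ((u⁻¹ : (Module.End F V)ˣ) : Module.End F V) v → v = 0) :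
    (tw f u).ND := by
  intro v hv
  apply h
  rw [← sub_eq_zero]
  exact hnd _ hv

theorem tw_isom {f : SForm F V (RingHom.id F)} {u t : (Module.End F V)ˣ} (ht : f.Isom t)
    (hc : Commute t u) : (tw f u).Isom t := by
  intro a b
  rw [tw_B, tw_B]
  have h1 : (u : Module.End F V) ((t : Module.End F V) a) =
      (t : Module.End F V) ((u : Module.End F V) a) := by
    have := congrArg (fun z : (Module.End F V)ˣ => (z : Module.End F V) a) hc.eq
    exact this.symm
  have h2 : ((u⁻¹ : (Module.End F V)ˣ) : Module.End F V) ((t : Module.End F V) a) =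
      (t : Module.End F V) (((u⁻¹ : (Module.End F V)ˣ) : Module.End F V) a) := by
    have := congrArg (fun z : (Module.End F V)ˣ => (z : Module.End F V) a) hc.inv_right.eq
    exact this.symm
  rw [h1, h2, ← map_sub, ht]

theorem alt_of_sym (h2 : (2 : F) ≠ 0) {f : SForm F V (RingHom.id F)} (hs : f.Sym (-1)) : f.Alt := by
  intro v
  have h := hs v v
  rw [RingHom.id_apply] at h
  have : (2 : F) * f.B v v = 0 := by linear_combination h
  exact (mul_eq_zero.mp this).resolve_left h2

theorem eq_zero_of_inv {u : (Module.End F V)ˣ} {N : ℕ} (hN : Odd N) (huN : u ^ N = 1)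
    (hfix : ∀ v, (u : Module.End F V) v = v → v = 0) (v : V)
    (h : (u : Module.End F V) v = ((u⁻¹ : (Module.End F V)ˣ) : Module.End F V) v) : v = 0 := by
  apply hfix
  obtain ⟨k, rfl⟩ := hN
  have h1 : ((u ^ 2 : (Module.End F V)ˣ) : Module.End F V) v = v := by
    rw [pow_two, Units.val_mul, Module.End.mul_apply, h]
    exact unit_inv_apply u v
  have h3 : ∀ j : ℕ, (((u ^ 2) ^ j : (Module.End F V)ˣ) : Module.End F V) v = v := by
    intro j
    induction j with
    | zero => rw [pow_zero]; rfl
    | succ j ih => rw [pow_succ, Units.val_mul, Module.End.mul_apply, h1, ih]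
  have h4 := h3 (k + 1)
  rw [← pow_mul, show 2 * (k + 1) = (2 * k + 1) + 1 by ring, pow_succ, huN, one_mul] at h4
  exact h4

theorem even_finrank [FiniteDimensional F V] {f : SForm F V (RingHom.id F)} (ha : f.Alt)
    (hnd : f.ND) : Even (finrank F V) := by
  have h := H17.PSpInvol.even_finrank (B := toBilin f) (fun v => ha v) (finrank F (⊤ : Submodule F V)) ⊤
    (fun v _ h => hnd v (fun w => h w trivial)) rfl
  rwa [finrank_top] at h

end Twist

section Split

variable {F V : Type*} [Field F] [AddCommGroup V] [Module F V]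

/-- Fixed vectors. -/
def fixS (u : (Module.End F V)ˣ) : Submodule F V := LinearMap.ker ((u : Module.End F V) - 1)

/-- Commutator space. -/
def comS (u : (Module.End F V)ˣ) : Submodule F V := LinearMap.range ((u : Module.End F V) - 1)

theorem mem_fixS {u : (Module.End F V)ˣ} {v : V} : v ∈ fixS u ↔ (u : Module.End F V) v = v := by
  rw [fixS, LinearMap.mem_ker, LinearMap.sub_apply, Module.End.one_apply, sub_eq_zero]

theorem mem_comS {u : (Module.End F V)ˣ} {v : V} :
    v ∈ comS u ↔ ∃ w, (u : Module.End F V) w - w = v := by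
  rw [comS, LinearMap.mem_range]
  rfl

theorem sum_pow_apply {u : (Module.End F V)ˣ} (N : ℕ) (w : V) :
    ∑ i ∈ Finset.range N, ((u : Module.End F V) ^ i) ((u : Module.End F V) w - w) =
      ((u : Module.End F V) ^ N) w - w := by
  induction N with
  | zero => simp
  | succ N ih =>
    rw [Finset.sum_range_succ, ih, map_sub, ← Module.End.mul_apply, ← pow_succ]
    abel

theorem pow_fix {u : (Module.End F V)ˣ} {v : V} (h : (u : Module.End F V) v = v) (i : ℕ) :
    ((u : Module.End F V) ^ i) v = v := by
  induction i with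
  | zero => rfl
  | succ i ih => rw [pow_succ, Module.End.mul_apply, h, ih]

theorem fix_com {u : (Module.End F V)ˣ} {N : ℕ} (hN : (N : F) ≠ 0) (huN : u ^ N = 1) {v : V}
    (h1 : v ∈ fixS u) (h2 : v ∈ comS u) : v = 0 := by
  rw [mem_fixS] at h1
  rw [mem_comS] at h2
  obtain ⟨w, hw⟩ := h2
  have h3 := sum_pow_apply (u := u) N w
  rw [hw, ← Units.val_pow_eq_pow_val, huN, Units.val_one, Module.End.one_apply, sub_self,
    Finset.sum_congr rfl (fun i _ => pow_fix h1 i), Finset.sum_const, Finset.card_range,
    ← Nat.cast_smul_eq_nsmul F] at h3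
  exact (smul_eq_zero.mp h3).resolve_left hN

theorem isCompl [FiniteDimensional F V] {u : (Module.End F V)ˣ} {N : ℕ} (hN : (N : F) ≠ 0)
    (huN : u ^ N = 1) : IsCompl (comS u) (fixS u) := by
  have h1 : Disjoint (comS u) (fixS u) := by
    rw [Submodule.disjoint_def]
    intro v h1 h2
    exact fix_com hN huN h2 h1
  refine ⟨h1, ?_⟩
  rw [codisjoint_iff]
  apply Submodule.eq_top_of_disjoint _ _ _ h1
  exact (LinearMap.finrank_range_add_finrank_ker _).ge

theorem orth {f : SForm F V (RingHom.id F)} {ε : F} (hs : f.Sym ε) {u : (Module.End F V)ˣ}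
    (hu : f.Isom u) : ∀ v ∈ comS u, ∀ w ∈ fixS u, f.B v w = 0 := by
  intro v hv w hw
  rw [mem_comS] at hv
  rw [mem_fixS] at hw
  obtain ⟨z, rfl⟩ := hv
  have := hu z w
  rw [hw] at this
  rw [f.sub_left, this, sub_self]

theorem fix_inv {u g : (Module.End F V)ˣ} (h : Commute g u) :
    ∀ v ∈ fixS u, (g : Module.End F V) v ∈ fixS u := by
  intro v hv
  rw [mem_fixS] at hv ⊢
  have := congrArg (fun z : (Module.End F V)ˣ => (z : Module.End F V) v) h.eq
  change (g : Module.End F V) ((u : Module.End F V) v) = (u : Module.End F V) ((g : Module.End F V) v)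
    at this
  rw [← this, hv]

theorem com_inv {u g : (Module.End F V)ˣ} (h : Commute g u) :
    ∀ v ∈ comS u, (g : Module.End F V) v ∈ comS u := by
  intro v hv
  rw [mem_comS] at hv ⊢
  obtain ⟨w, rfl⟩ := hv
  refine ⟨(g : Module.End F V) w, ?_⟩
  have := congrArg (fun z : (Module.End F V)ˣ => (z : Module.End F V) w) h.eq
  change (g : Module.End F V) ((u : Module.End F V) w) = (u : Module.End F V) ((g : Module.End F V) w)
    at this
  rw [map_sub, this]

/-- Restriction of a semisimple isometry of odd order to its commutator space, with a form of the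
opposite symmetry. -/
theorem res_tw [FiniteDimensional F V] [Nontrivial V] {f : SForm F V (RingHom.id F)} {ε : F}
    (hs : f.Sym ε) (hnd : f.ND) {u : (Module.End F V)ˣ} (hu : f.Isom u) {N : ℕ} (hN : (N : F) ≠ 0)
    (hN2 : Odd N) (huN : u ^ N = 1) :
    ∃ (g : SForm F (comS u) (RingHom.id F)) (w : (Module.End F (comS u))ˣ), g.Sym (-ε) ∧ g.ND ∧
      g.Isom w ∧ orderOf w = orderOf u ∧
      (∀ x : comS u, (((w : Module.End F (comS u)) x : comS u) : V) = (u : Module.End F V) x) ∧
      ∀ x, (w : Module.End F (comS u)) x = x → x = 0 := by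
  obtain ⟨u₁, u₂, h1, h2, h3, h4, -, h5, -, h6, h7⟩ := H46.OrthDec.decomp_isom hs hnd (comS u)
    (fixS u) (isCompl hN huN) (orth hs hu) u hu (com_inv (Commute.refl u)) (fix_inv (Commute.refl u))
  have hu2 : u₂ = 1 := by
    apply Units.ext
    apply LinearMap.ext
    intro w
    apply Subtype.ext
    rw [h7]
    exact mem_fixS.mp w.2
  have hord : orderOf u₁ = orderOf u := by
    rw [h5, hu2]
    have : prodUnit u₁ (1 : (Module.End F (fixS u))ˣ) =
        (Units.map (LinearMap.prodMapAlgHom F (comS u) (fixS u) :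
          (Module.End F (comS u) × Module.End F (fixS u)) →*
            Module.End F ((comS u) × (fixS u)))) (MulEquiv.prodUnits.symm (u₁, 1)) := rfl
    have h8 : orderOf (prodUnit u₁ (1 : (Module.End F (fixS u))ˣ)) = orderOf u₁ := by
      apply orderOf_eq_orderOf_iff.mpr
      intro k
      rw [prodUnit_pow, one_pow]
      constructor
      · intro h
        apply Units.ext
        apply LinearMap.ext
        intro x
        have := congrArg (fun z : (Module.End F ((comS u) × (fixS u)))ˣ =>
          ((z : Module.End F ((comS u) × (fixS u))) (x, 0)).1) h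
        exact this
      · intro h
        rw [h]
        apply Units.ext
        apply LinearMap.ext
        intro x
        rfl
    exact h8.symm
  have hfix : ∀ x, (u₁ : Module.End F (comS u)) x = x → x = 0 := by
    intro x hx
    apply Subtype.ext
    apply fix_com hN huN _ x.2
    rw [mem_fixS, ← h6, hx]
  have hpow : u₁ ^ N = 1 := by
    apply orderOf_dvd_iff_pow_eq_one.mp
    rw [hord]
    exact orderOf_dvd_iff_pow_eq_one.mpr huN
  have hs' : (f.pull (comS u).subtype).Sym ε := fun v w => hs _ _
  exact ⟨tw (f.pull (comS u).subtype) u₁, u₁, tw_sym hs' h1,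
    tw_nd h3 (eq_zero_of_inv hN2 hpow hfix), tw_isom h1 (Commute.refl _), hord, h6, hfix⟩

end Split

end H17.SpecConv
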