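import Mathlib
import Cfsg.Agent.Lib.H17.OrthTrans2
import Cfsg.Agent.Lib.H7.OmegaOrd
import Cfsg.Agent.Lib.H7.OmegaIso
import Cfsg.Agent.Lib.H7.HypOrd
import Cfsg.Agent.Lib.H46.OrthDec
import Cfsg.Agent.Lib.H46.OrdPSp

set_option autoImplicit false
set_option linter.unusedSectionVars false

/-! Element orders of `PΩ(2n+1, q)`, `q` odd, through abstract symmetric bilinear spaces. -/

namespace H17.SpecPO

open Module QuadraticMap H17.OrthAbs H46.SForm H46.SForm.SForm H46.ProdUnit H46.OrdPSp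

universe u

section Defs

variable {F : Type*} [Field F] {V : Type*} [AddCommGroup V] [Module F V]

/-- The quadratic form of a form. -/
def Qof (f : SForm F V (RingHom.id F)) : QuadraticForm F V := (toBilin f).toQuadraticMap

theorem Qof_apply (f : SForm F V (RingHom.id F)) (v : V) : Qof f v = f.B v v := rfl

theorem sym_swap {f : SForm F V (RingHom.id F)} (hs : f.Sym 1) (v w : V) : f.B w v = f.B v w := by
  have := hs v w
  simpa using this

theorem polar_Qof {f : SForm F V (RingHom.id F)} (hs : f.Sym 1) (v w : V) :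
    polar (⇑(Qof f)) v w = 2 * f.B v w := by
  rw [QuadraticMap.polar, Qof_apply, Qof_apply, Qof_apply, f.add_left, f.add_right, f.add_right,
    sym_swap hs v w]
  ring

theorem nd_Qof (h2 : (2 : F) ≠ 0) {f : SForm F V (RingHom.id F)} (hs : f.Sym 1) (hnd : f.ND) :
    H48.QuadSplit.ND (Qof f) := by
  intro x hx
  apply hnd
  intro w
  have := hx w
  rw [polar_Qof hs] at this
  exact (mul_eq_zero.mp this).resolve_left h2

/-- The isometries as units of the endomorphism ring. -/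
noncomputable def ev (Q : QuadraticForm F V) : ↥(O Q) →* (Module.End F V)ˣ :=
  ((LinearMap.GeneralLinearGroup.generalLinearEquiv F V).symm.toMonoidHom).comp (O Q).subtype

theorem ev_apply (Q : QuadraticForm F V) (g : ↥(O Q)) (v : V) :
    (ev Q g : Module.End F V) v = (g : V ≃ₗ[F] V) v := rfl

theorem ev_injective (Q : QuadraticForm F V) : Function.Injective (ev Q) := by
  intro a b h
  apply Subtype.ext
  exact (LinearMap.GeneralLinearGroup.generalLinearEquiv F V).symm.injective h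

/-- The commutator subgroup of the isometry group, inside the units. -/
noncomputable def Om (f : SForm F V (RingHom.id F)) : Subgroup (Module.End F V)ˣ :=
  (commutator ↥(O (Qof f))).map (ev (Qof f))

/-- An isometry as an element of `O`. -/
noncomputable def toO (f : SForm F V (RingHom.id F)) (u : (Module.End F V)ˣ) (hu : f.Isom u) :
    ↥(O (Qof f)) :=
  ⟨LinearMap.GeneralLinearGroup.generalLinearEquiv F V u, fun v => by
    rw [Qof_apply, Qof_apply]
    exact hu v v⟩

theorem ev_toO (f : SForm F V (RingHom.id F)) (u : (Module.End F V)ˣ) (hu : f.Isom u) :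
    ev (Qof f) (toO f u hu) = u := by
  apply Units.ext
  apply LinearMap.ext
  intro v
  rfl

theorem toO_apply (f : SForm F V (RingHom.id F)) (u : (Module.End F V)ˣ) (hu : f.Isom u) (v : V) :
    (toO f u hu : V ≃ₗ[F] V) v = (u : Module.End F V) v := rfl

theorem isom_ev (h2 : (2 : F) ≠ 0) {f : SForm F V (RingHom.id F)} (hs : f.Sym 1)
    (g : ↥(O (Qof f))) : f.Isom (ev (Qof f) g) := by
  intro v w
  have h := polar_map (g := (g : V ≃ₗ[F] V)) g.2 v w
  rw [polar_Qof hs, polar_Qof hs] at h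
  exact mul_left_cancel₀ h2 h

theorem isom_of_mem (h2 : (2 : F) ≠ 0) {f : SForm F V (RingHom.id F)} (hs : f.Sym 1)
    {u : (Module.End F V)ˣ} (hu : u ∈ Om f) : f.Isom u := by
  obtain ⟨g, -, rfl⟩ := hu
  exact isom_ev h2 hs g

theorem mem_Om_iff {f : SForm F V (RingHom.id F)} {u : (Module.End F V)ˣ} (hu : f.Isom u) :
    u ∈ Om f ↔ toO f u hu ∈ commutator ↥(O (Qof f)) := by
  constructor
  · rintro ⟨g, hg, h⟩
    have : g = toO f u hu := by
      apply ev_injective
      rw [h, ev_toO]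
    rwa [← this]
  · intro h
    exact ⟨_, h, ev_toO f u hu⟩

end Defs

section Fin

variable {F : Type*} [Field F] [Finite F] {V : Type*} [AddCommGroup V] [Module F V]
  [FiniteDimensional F V]

theorem sq_mem (h2 : (2 : F) ≠ 0) {f : SForm F V (RingHom.id F)} (hs : f.Sym 1) (hnd : f.ND)
    (hd : 2 ≤ finrank F V) {u : (Module.End F V)ˣ} (hu : f.Isom u) : u ^ 2 ∈ Om f := by
  have : Finite V := Module.finite_of_finite F
  have hQ := H7.OmegaIso.ND.nondegenerate (nd_Qof h2 hs hnd)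
  rw [mem_Om_iff (hu.pow 2)]
  obtain ⟨R, -⟩ := H17.OrthOmega.exists_reps (F := F) h2 1 one_ne_zero
  rw [H17.OrthOmega.mem_commutator_iff h2 _ R hQ hd]
  have h3 : toO f (u ^ 2) (hu.pow 2) = toO f u hu * toO f u hu := by
    apply ev_injective
    rw [ev_toO, map_mul, ev_toO, pow_two]
  rw [h3, map_mul, map_mul, Int.units_mul_self, Int.units_mul_self]
  exact ⟨rfl, rfl⟩

theorem odd_mem (h2 : (2 : F) ≠ 0) {f : SForm F V (RingHom.id F)} (hs : f.Sym 1) (hnd : f.ND)
    (hd : 2 ≤ finrank F V) {u : (Module.End F V)ˣ} (hu : f.Isom u) (ho : Odd (orderOf u)) :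
    u ∈ Om f := by
  obtain ⟨k, hk⟩ := ho
  have h : (u ^ (k + 1)) ^ 2 = u := by
    rw [← pow_mul]
    have h1 : (k + 1) * 2 = orderOf u + 1 := by omega
    rw [h1, pow_succ, pow_orderOf_eq_one, one_mul]
  rw [← h]
  exact sq_mem h2 hs hnd hd (hu.pow _)

/-- The sign on the vectors of given norm. -/
theorem theta_eq_one (h2 : (2 : F) ≠ 0) {f : SForm F V (RingHom.id F)} (hs : f.Sym 1)
    {u : (Module.End F V)ˣ} (hu : u ∈ Om f) [Finite V] (c : F) :
    H17.OrthTheta.theta (Qof f) c (toO f u (isom_of_mem h2 hs hu)) = 1 := by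
  have h := (mem_Om_iff (isom_of_mem h2 hs hu)).mp hu
  have : commutator ↥(O (Qof f)) ≤ (H17.OrthTheta.theta (Qof f) c).ker :=
    Abelianization.commutator_subset_ker _
  exact this h

end Fin

section Prod

variable {F : Type*} [Field F] {V₁ V₂ : Type*} [AddCommGroup V₁] [Module F V₁]
  [AddCommGroup V₂] [Module F V₂]

/-- Extension of isometries by the identity. -/
noncomputable def extO (f₁ : SForm F V₁ (RingHom.id F)) (f₂ : SForm F V₂ (RingHom.id F)) :
    ↥(O (Qof f₁)) →* ↥(O (Qof (f₁.prod f₂))) where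
  toFun g := ⟨(g : V₁ ≃ₗ[F] V₁).prodCongr (LinearEquiv.refl F V₂), fun v => by
    rw [Qof_apply, Qof_apply]
    change f₁.B _ _ + f₂.B _ _ = f₁.B _ _ + f₂.B _ _
    have := g.2 v.1
    rw [Qof_apply, Qof_apply] at this
    exact congrArg (· + f₂.B v.2 v.2) this⟩
  map_one' := by
    apply Subtype.ext
    apply LinearEquiv.ext
    intro v
    rfl
  map_mul' a b := by
    apply Subtype.ext
    apply LinearEquiv.ext
    intro v
    rfl

theorem prod_mem_left {f₁ : SForm F V₁ (RingHom.id F)} {f₂ : SForm F V₂ (RingHom.id F)}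
    {u : (Module.End F V₁)ˣ} (hu : u ∈ Om f₁) : prodUnit u 1 ∈ Om (f₁.prod f₂) := by
  obtain ⟨g, hg, rfl⟩ := hu
  refine ⟨extO f₁ f₂ g, ?_, ?_⟩
  · have : (commutator ↥(O (Qof f₁))).map (extO f₁ f₂) ≤ commutator ↥(O (Qof (f₁.prod f₂))) := by
      rw [commutator_def, Subgroup.map_commutator]
      exact Subgroup.commutator_mono le_top le_top
    exact this ⟨g, hg, rfl⟩
  · apply Units.ext
    apply LinearMap.ext
    intro v
    rfl

/-- Extension of isometries by the identity on the left. -/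
noncomputable def extO' (f₁ : SForm F V₁ (RingHom.id F)) (f₂ : SForm F V₂ (RingHom.id F)) :
    ↥(O (Qof f₂)) →* ↥(O (Qof (f₁.prod f₂))) where
  toFun g := ⟨(LinearEquiv.refl F V₁).prodCongr (g : V₂ ≃ₗ[F] V₂), fun v => by
    rw [Qof_apply, Qof_apply]
    change f₁.B _ _ + f₂.B _ _ = f₁.B _ _ + f₂.B _ _
    have := g.2 v.2
    rw [Qof_apply, Qof_apply] at this
    exact congrArg (f₁.B v.1 v.1 + ·) this⟩
  map_one' := by
    apply Subtype.ext
    apply LinearEquiv.ext
    intro v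
    rfl
  map_mul' a b := by
    apply Subtype.ext
    apply LinearEquiv.ext
    intro v
    rfl

theorem prod_mem_right {f₁ : SForm F V₁ (RingHom.id F)} {f₂ : SForm F V₂ (RingHom.id F)}
    {u : (Module.End F V₂)ˣ} (hu : u ∈ Om f₂) : prodUnit 1 u ∈ Om (f₁.prod f₂) := by
  obtain ⟨g, hg, rfl⟩ := hu
  refine ⟨extO' f₁ f₂ g, ?_, ?_⟩
  · have : (commutator ↥(O (Qof f₂))).map (extO' f₁ f₂) ≤ commutator ↥(O (Qof (f₁.prod f₂))) := by
      rw [commutator_def, Subgroup.map_commutator]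
      exact Subgroup.commutator_mono le_top le_top
    exact this ⟨g, hg, rfl⟩
  · apply Units.ext
    apply LinearMap.ext
    intro v
    rfl

theorem sym_prod {f₁ : SForm F V₁ (RingHom.id F)} {f₂ : SForm F V₂ (RingHom.id F)} {ε : F}
    (h₁ : f₁.Sym ε) (h₂ : f₂.Sym ε) : (f₁.prod f₂).Sym ε := by
  intro v w
  change f₁.B _ _ + f₂.B _ _ = ε * (RingHom.id F) (f₁.B _ _ + f₂.B _ _)
  rw [h₁, h₂, map_add, mul_add]

end Prod

section Transport

variable {F : Type*} [Field F] {V V' : Type*} [AddCommGroup V] [Module F V]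
  [AddCommGroup V'] [Module F V']

/-- Similar spaces have isomorphic isometry groups. -/
noncomputable def trO {Q : QuadraticForm F V} {Q' : QuadraticForm F V'} (e : V ≃ₗ[F] V') {c : F}
    (hc : c ≠ 0) (h : ∀ v, Q' (e v) = c * Q v) : ↥(O Q) ≃* ↥(O Q') where
  toFun g := ⟨(e.symm.trans (g : V ≃ₗ[F] V)).trans e, fun v => by
    change Q' (e ((g : V ≃ₗ[F] V) (e.symm v))) = Q' v
    rw [h, mem_O.mp g.2, ← h, LinearEquiv.apply_symm_apply]⟩
  invFun g := ⟨(e.trans (g : V' ≃ₗ[F] V')).trans e.symm, fun v => by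
    change Q (e.symm ((g : V' ≃ₗ[F] V') (e v))) = Q v
    apply mul_left_cancel₀ hc
    rw [← h, LinearEquiv.apply_symm_apply, mem_O.mp g.2, h]⟩
  left_inv g := by
    apply Subtype.ext
    apply LinearEquiv.ext
    intro v
    change e.symm (e ((g : V ≃ₗ[F] V) (e.symm (e v)))) = _
    rw [LinearEquiv.symm_apply_apply, LinearEquiv.symm_apply_apply]
  right_inv g := by
    apply Subtype.ext
    apply LinearEquiv.ext
    intro v
    change e (e.symm ((g : V' ≃ₗ[F] V') (e (e.symm v)))) = _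
    rw [LinearEquiv.apply_symm_apply, LinearEquiv.apply_symm_apply]
  map_mul' a b := by
    apply Subtype.ext
    apply LinearEquiv.ext
    intro v
    change e ((a : V ≃ₗ[F] V) ((b : V ≃ₗ[F] V) (e.symm v))) =
      e ((a : V ≃ₗ[F] V) (e.symm (e ((b : V ≃ₗ[F] V) (e.symm v)))))
    rw [LinearEquiv.symm_apply_apply]

theorem mem_commutator_map {A B : Type*} [Group A] [Group B] (φ : A ≃* B) {a : A}
    (ha : a ∈ commutator A) : φ a ∈ commutator B := by
  have : (commutator A).map φ.toMonoidHom ≤ commutator B := by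
    rw [commutator_def, Subgroup.map_commutator]
    exact Subgroup.commutator_mono le_top le_top
  exact this ⟨a, ha, rfl⟩

end Transport

section Main

theorem center_eq_bot {F : Type*} [Field F] [Fintype F] (h2 : (2 : F) ≠ 0) (m : ℕ) (hm : 2 ≤ m) :
    Subgroup.center (Cfsg.Omega F (Cfsg.quadFormOdd m F)) = ⊥ := by
  obtain ⟨k, rfl⟩ : ∃ k, m = k + 2 := ⟨m - 2, by omega⟩
  obtain ⟨e⟩ := (H7.HypStd.odd_succ (F := F) (k + 1) 1).trans
    (H7.OmegaIso.hyp_congr (H7.HypStd.odd_succ (F := F) k 1))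
  have hf : ∀ v, H7.Hyp.hyp (H7.Hyp.hyp (H48.QuadStd.qOdd k F 1)) (e.toLinearEquiv v) =
      Cfsg.quadFormOdd (k + 2) F v := by
    intro v
    rw [← H48.QuadStd.coe_qOdd]
    exact e.map_app v
  have hQ := H7.HypOrd.nd_odd (F := F) k h2 one_ne_zero
  have hc := H7.OmegaOrd.card_center_one (ι := Unit ⊕ (Fin (k + 2) ⊕ Fin (k + 2))) hQ.hyp
    e.toLinearEquiv hf (H7.OmegaIso.commutator_eq_two hQ) (by
    right
    rintro ⟨g, hg, hg1⟩
    let δ : ↥(Cfsg.isometryGroup F (Cfsg.quadFormOdd (k + 2) F)) →* Fˣ :=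
      Matrix.GeneralLinearGroup.det.comp (Cfsg.isometryGroup F (Cfsg.quadFormOdd (k + 2) F)).subtype
    have h3 : g ∈ δ.ker := Abelianization.commutator_subset_ker δ hg
    have h4 : ((g : Matrix.GeneralLinearGroup (Unit ⊕ (Fin (k + 2) ⊕ Fin (k + 2))) F) :
        Matrix (Unit ⊕ (Fin (k + 2) ⊕ Fin (k + 2))) (Unit ⊕ (Fin (k + 2) ⊕ Fin (k + 2))) F).det = 1 :=
      congrArg Units.val h3
    rw [hg1, Matrix.det_neg, Matrix.det_one, mul_one] at h4
    have h5 : Fintype.card (Unit ⊕ (Fin (k + 2) ⊕ Fin (k + 2))) = 2 * (k + 2) + 1 := by simp; ring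
    rw [h5, Odd.neg_one_pow ⟨k + 2, rfl⟩] at h4
    apply h2
    rw [← one_add_one_eq_two]
    nth_rewrite 1 [← h4]
    ring)
  rw [Nat.card_eq_one_iff_unique] at hc
  rw [eq_bot_iff]
  intro x hx
  rw [Subgroup.mem_bot]
  have := hc.1
  exact congrArg Subtype.val (Subsingleton.elim (⟨x, hx⟩ : Subgroup.center (Cfsg.Omega F (Cfsg.quadFormOdd (k + 2) F))) 1)

theorem orderOf_mk {F : Type*} [Field F] [Fintype F] (h2 : (2 : F) ≠ 0) (m : ℕ) (hm : 2 ≤ m)
    (g : Cfsg.Omega F (Cfsg.quadFormOdd m F)) :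
    orderOf (QuotientGroup.mk g : Cfsg.POmega F (Cfsg.quadFormOdd m F)) = orderOf g := by
  apply orderOf_injective (QuotientGroup.mk' (Subgroup.center (Cfsg.Omega F (Cfsg.quadFormOdd m F))))
  rw [← MonoidHom.ker_eq_bot_iff, QuotientGroup.ker_mk', center_eq_bot h2 m hm]

/-- An element of the commutator subgroup of the isometry group of a symmetric bilinear space of
dimension `2n+1` gives an element order of `PΩ(2n+1, q)`. -/
theorem mem_orders {F : Type*} [Field F] [Finite F] (h2 : (2 : F) ≠ 0) {n : ℕ} (hn : 2 ≤ n)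
    {V : Type u} [AddCommGroup V] [Module F V] {f : SForm F V (RingHom.id F)} (hs : f.Sym 1)
    (hnd : f.ND) (hd : finrank F V = 2 * n + 1) {u : (Module.End F V)ˣ} (hu : u ∈ Om f) :
    orderOf u ∈ Set.range (orderOf : Cfsg.POmega F (Cfsg.quadFormOdd n F) → ℕ) := by
  have := Fintype.ofFinite F
  haveI : FiniteDimensional F V := Module.finite_of_finrank_pos (by omega)
  obtain ⟨-, c, hc, ⟨e⟩⟩ := H48.QuadStd.classify_odd n V (Qof f) (nd_Qof h2 hs hnd) hd
  -- scale the standard form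
  have h1 : ∃ (e' : V ≃ₗ[F] (Unit ⊕ (Fin n ⊕ Fin n) → F)),
      ∀ v, H48.QuadStd.qOdd n F 1 (e' v) = c⁻¹ * Qof f v := by
    let s : (Unit ⊕ (Fin n ⊕ Fin n) → F) ≃ₗ[F] (Unit ⊕ (Fin n ⊕ Fin n) → F) :=
      LinearEquiv.piCongrRight (fun i => match i with
        | .inl _ => LinearEquiv.refl F F
        | .inr (.inl _) => LinearEquiv.smulOfNeZero F F (c⁻¹) (inv_ne_zero hc)
        | .inr (.inr _) => LinearEquiv.refl F F)
    refine ⟨e.toLinearEquiv.trans s, fun v => ?_⟩
    have h3 : Qof f v = H48.QuadStd.qOdd n F c (e.toLinearEquiv v) := (e.map_app v).symm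
    rw [h3, LinearEquiv.trans_apply, H48.QuadStd.qOdd_apply, H48.QuadStd.qOdd_apply]
    set w := e.toLinearEquiv v with hw
    have ha : s w (.inl ()) = w (.inl ()) := rfl
    have hb : ∀ i, s w (.inr (.inl i)) = c⁻¹ * w (.inr (.inl i)) := fun i => rfl
    have hc' : ∀ i, s w (.inr (.inr i)) = w (.inr (.inr i)) := fun i => rfl
    simp only [ha, hb, hc', mul_add, Finset.mul_sum]
    congr 1
    · field_simp
    · refine Finset.sum_congr rfl fun i _ => ?_
      ring
  obtain ⟨e', he'⟩ := h1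
  obtain ⟨g, hg, rfl⟩ := hu
  let φ := (trO e' (inv_ne_zero hc) he').trans (H17.OrthTrans.equiv (H48.QuadStd.qOdd n F 1)).symm
  have hφ := mem_commutator_map φ hg
  have h4 : orderOf (φ g) = orderOf (ev (Qof f) g) := by
    rw [MulEquiv.orderOf_eq, orderOf_injective _ (ev_injective (Qof f))]
  rw [← h4]
  have h5 : ∀ (Q : (Unit ⊕ (Fin n ⊕ Fin n) → F) → F), Q = Cfsg.quadFormOdd n F →
      ∀ y : ↥(Cfsg.isometryGroup F Q), y ∈ commutator ↥(Cfsg.isometryGroup F Q) →
      orderOf y ∈ Set.range (orderOf : Cfsg.POmega F (Cfsg.quadFormOdd n F) → ℕ) := by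
    rintro Q rfl y hy
    refine ⟨QuotientGroup.mk (⟨y, hy⟩ : Cfsg.Omega F (Cfsg.quadFormOdd n F)), ?_⟩
    rw [orderOf_mk h2 n hn, Subgroup.orderOf_mk]
  exact h5 _ (H48.QuadStd.coe_qOdd n) _ hφ

/-- The standard symmetric form in odd dimension. -/
def stdO (n : ℕ) (F : Type*) [Field F] : SForm F (Unit ⊕ (Fin n ⊕ Fin n) → F) (RingHom.id F) where
  B := polar (⇑(H48.QuadStd.qOdd n F 1))
  add_left := fun u v w => QuadraticMap.polar_add_left _ _ _ _
  add_right := fun u v w => QuadraticMap.polar_add_right _ _ _ _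
  smul_left := fun c v w => by rw [QuadraticMap.polar_smul_left, smul_eq_mul]
  smul_right := fun c v w => by rw [QuadraticMap.polar_smul_right, smul_eq_mul, RingHom.id_apply]

theorem stdO_sym (n : ℕ) (F : Type*) [Field F] : (stdO n F).Sym 1 := by
  intro v w
  rw [RingHom.id_apply, one_mul]
  exact QuadraticMap.polar_comm _ _ _

theorem stdO_nd {F : Type*} [Field F] (h2 : (2 : F) ≠ 0) (n : ℕ) : (stdO n F).ND := by
  intro v hv
  exact H48.QuadStd.nd_qOdd n h2 one_ne_zero v hv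

theorem stdO_finrank (n : ℕ) (F : Type*) [Field F] :
    finrank F (Unit ⊕ (Fin n ⊕ Fin n) → F) = 2 * n + 1 := by
  rw [Module.finrank_fintype_fun_eq_card]
  simp
  ring

theorem exists_of_mem {F : Type*} [Field F] [Finite F] (h2 : (2 : F) ≠ 0) {n : ℕ} (hn : 2 ≤ n)
    (x : Cfsg.POmega F (Cfsg.quadFormOdd n F)) :
    ∃ u : (Module.End F (Unit ⊕ (Fin n ⊕ Fin n) → F))ˣ, u ∈ Om (stdO n F) ∧ orderOf u = orderOf x := by
  have := Fintype.ofFinite F
  obtain ⟨g, rfl⟩ := QuotientGroup.mk_surjective x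
  rw [orderOf_mk h2 n hn]
  have h5 : ∀ (Q : (Unit ⊕ (Fin n ⊕ Fin n) → F) → F), Q = ⇑(H48.QuadStd.qOdd n F 1) →
      ∀ y : ↥(Cfsg.isometryGroup F Q), y ∈ commutator ↥(Cfsg.isometryGroup F Q) →
      ∃ z : ↥(O (H48.QuadStd.qOdd n F 1)), z ∈ commutator ↥(O (H48.QuadStd.qOdd n F 1)) ∧
        orderOf z = orderOf y := by
    rintro Q rfl y hy
    exact ⟨H17.OrthTrans.equiv _ y, mem_commutator_map _ hy, MulEquiv.orderOf_eq _ _⟩
  obtain ⟨z, hz, hz'⟩ := h5 _ (H48.QuadStd.coe_qOdd n).symm g.1 g.2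
  have h6 : ∀ v : Unit ⊕ (Fin n ⊕ Fin n) → F, Qof (stdO n F) (LinearEquiv.refl F _ v) =
      2 * H48.QuadStd.qOdd n F 1 v := by
    intro v
    rw [Qof_apply]
    change polar (⇑(H48.QuadStd.qOdd n F 1)) v v = _
    rw [QuadraticMap.polar_self, nsmul_eq_mul, Nat.cast_ofNat]
  refine ⟨ev _ (trO (LinearEquiv.refl F _) h2 h6 z), ⟨_, mem_commutator_map _ hz, rfl⟩, ?_⟩
  rw [orderOf_injective _ (ev_injective _), MulEquiv.orderOf_eq, hz', Subgroup.orderOf_coe]

end Main

end H17.SpecPO
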