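import Mathlib
import Cfsg.Agent.Lib.H17.SpecConv

set_option autoImplicit false
set_option linter.unusedSectionVars false

/-! Isometries commuting with an orthogonally indecomposable semisimple isometry. -/

namespace H17.SpecUni

open Module H46.SForm H46.SForm.SForm H46.ProdUnit H46.OrdPSp H17.SpecConv

section Free

/-- A linear map of prime order without non-zero fixed vectors acts freely. -/
theorem free_modEq {α : Type*} [Finite α] (σ : Equiv.Perm α) (r : ℕ) [Fact r.Prime] (h : σ ^ r = 1) :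
    Nat.card α ≡ Nat.card {x // σ x = x} [MOD r] := by
  classical
  have := Fintype.ofFinite α
  have hp : IsPGroup r (Subgroup.zpowers σ) := by
    intro g
    refine ⟨1, ?_⟩
    obtain ⟨k, hk⟩ := Subgroup.mem_zpowers_iff.mp g.2
    apply Subtype.ext
    rw [pow_one, Subgroup.coe_pow, ← hk, ← zpow_natCast, ← zpow_mul, mul_comm, zpow_mul,
      zpow_natCast, h, one_zpow]
    rfl
  have h1 := hp.card_modEq_card_fixedPoints α
  refine h1.trans ?_
  have h2 : Nat.card (MulAction.fixedPoints (Subgroup.zpowers σ) α) = Nat.card {x // σ x = x} := by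
    apply Nat.card_congr
    refine Equiv.subtypeEquivRight fun x => ?_
    rw [MulAction.mem_fixedPoints]
    constructor
    · intro h
      exact h ⟨σ, Subgroup.mem_zpowers σ⟩
    · intro h g
      obtain ⟨k, hk⟩ := Subgroup.mem_zpowers_iff.mp g.2
      change (g : Equiv.Perm α) x = x
      rw [← hk]
      exact Equiv.Perm.zpow_apply_eq_self_of_apply_eq_self h k
  rw [h2]

/-- The sign of a permutation all of whose non-trivial cycles have the same even length. -/
theorem sign_eq {α : Type*} [Fintype α] [DecidableEq α] (σ : Equiv.Perm α) (N : ℕ) (hN : Even N)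
    (hpow : σ ^ N = 1) (hfree : ∀ x, σ x ≠ x → ∀ k : ℕ, (σ ^ k) x = x → N ∣ k) (hN0 : 0 < N) :
    ∃ j, σ.support.card = N * j ∧ Equiv.Perm.sign σ = (-1) ^ j := by
  have h1 : ∀ n ∈ σ.cycleType, n = N := by
    intro n hn
    rw [Equiv.Perm.cycleType_def, Multiset.mem_map] at hn
    obtain ⟨c, hc, rfl⟩ := hn
    have hc' : c ∈ σ.cycleFactorsFinset := hc
    have hcyc := (Equiv.Perm.mem_cycleFactorsFinset_iff.mp hc').1
    obtain ⟨x, hx, -⟩ := hcyc
    have hxs : x ∈ c.support := Equiv.Perm.mem_support.mpr hx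
    have hcx := (Equiv.Perm.mem_cycleFactorsFinset_iff.mp hc').2 x hxs
    have hσx : σ x ≠ x := by rw [← hcx]; exact hx
    have hcσ : c = σ.cycleOf x := (Equiv.Perm.cycle_is_cycleOf hxs hc')
    have h2 : ∀ k : ℕ, (c ^ k) x = (σ ^ k) x := by
      intro k
      rw [hcσ, Equiv.Perm.cycleOf_pow_apply_self]
    have hord : orderOf c = c.support.card :=
      (Equiv.Perm.mem_cycleFactorsFinset_iff.mp hc').1.orderOf
    change c.support.card = N
    rw [← hord]
    apply Nat.dvd_antisymm
    · rw [orderOf_dvd_iff_pow_eq_one]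
      apply ((Equiv.Perm.mem_cycleFactorsFinset_iff.mp hc').1.pow_eq_one_iff' (x := x) hx).mpr
      rw [h2, hpow]
      rfl
    · apply hfree x hσx
      rw [← h2, pow_orderOf_eq_one]
      rfl
  have h3 : σ.cycleType = Multiset.replicate (Multiset.card σ.cycleType) N :=
    Multiset.eq_replicate_card.mpr h1
  refine ⟨Multiset.card σ.cycleType, ?_, ?_⟩
  · rw [← Equiv.Perm.sum_cycleType]
    conv_lhs => rw [h3]
    rw [Multiset.sum_replicate, smul_eq_mul, mul_comm]
  · rw [Equiv.Perm.sign_of_cycleType]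
    have h4 : σ.cycleType.sum = Multiset.card σ.cycleType * N := by
      conv_lhs => rw [h3]
      rw [Multiset.sum_replicate, smul_eq_mul]
    rw [h4, pow_add, (hN.mul_left _).neg_one_pow, one_mul]

end Free

section Unip

variable {F V : Type*} [Field F] [AddCommGroup V] [Module F V] [FiniteDimensional F V]

/-- invariant complement -/
theorem exists_compl (x : (Module.End F V)ˣ) {N : ℕ} (hN : (N : F) ≠ 0) (hxN : x ^ N = 1)
    (U : Submodule F V) (hU : ∀ v ∈ U, (x : Module.End F V) v ∈ U) :
    ∃ U' : Submodule F V, IsCompl U U' ∧ ∀ v ∈ U', (x : Module.End F V) v ∈ U' := by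
  have h1 : Squarefree (Polynomial.X ^ N - 1 : Polynomial F) := by
    apply Polynomial.Separable.squarefree
    rw [Polynomial.X_pow_sub_one_separable_iff]
    exact hN
  have h2 : Polynomial.aeval (x : Module.End F V) (Polynomial.X ^ N - 1 : Polynomial F) = 0 := by
    rw [map_sub, map_pow, Polynomial.aeval_X, map_one, ← Units.val_pow_eq_pow_val, hxN, Units.val_one,
      sub_self]
  have h3 := Module.End.isSemisimple_of_squarefree_aeval_eq_zero h1 h2
  rw [Module.End.isSemisimple_iff] at h3
  obtain ⟨q, hq, hc⟩ := h3 U (by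
    intro v hv
    exact hU v hv)
  exact ⟨q, hc, fun v hv => hq hv⟩

/-- orthogonal of a subspace -/
def orthS (f : SForm F V (RingHom.id F)) (U : Submodule F V) : Submodule F V where
  carrier := {v | ∀ w ∈ U, f.B v w = 0}
  add_mem' := fun ha hb w hw => by rw [f.add_left, ha w hw, hb w hw, add_zero]
  zero_mem' := fun w _ => f.zero_left w
  smul_mem' := fun c v hv w hw => by rw [f.smul_left, hv w hw, mul_zero]

theorem mem_orthS {f : SForm F V (RingHom.id F)} {U : Submodule F V} {v : V} :
    v ∈ orthS f U ↔ ∀ w ∈ U, f.B v w = 0 := Iff.rfl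

variable {f : SForm F V (RingHom.id F)} {ε : F} (hs : f.Sym ε) (hnd : f.ND)
  {x : (Module.End F V)ˣ} (hx : f.Isom x) {N : ℕ} (hN : (N : F) ≠ 0) (hxN : x ^ N = 1)
  (hind : ∀ U : Submodule F V, (∀ v ∈ U, (x : Module.End F V) v ∈ U) →
    (∀ v ∈ U, (∀ w ∈ U, f.B v w = 0) → v = 0) → U = ⊥ ∨ U = ⊤)

include hs in
theorem swap0 {v w : V} (h : f.B v w = 0) : f.B w v = 0 := by
  rw [hs v w, h, map_zero, mul_zero]

include hN hxN in
theorem inv_mem (U : Submodule F V) (hU : ∀ v ∈ U, (x : Module.End F V) v ∈ U) (v : V)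
    (hv : v ∈ U) : ((x⁻¹ : (Module.End F V)ˣ) : Module.End F V) v ∈ U := by
  have hN0 : N ≠ 0 := by rintro rfl; exact hN Nat.cast_zero
  obtain ⟨k, rfl⟩ := Nat.exists_eq_succ_of_ne_zero hN0
  have h1 : x⁻¹ = x ^ k := by
    rw [inv_eq_iff_mul_eq_one, ← pow_succ']
    exact hxN
  rw [h1, Units.val_pow_eq_pow_val]
  have : ∀ j : ℕ, ((x : Module.End F V) ^ j) v ∈ U := by
    intro j
    induction j with
    | zero => exact hv
    | succ j ih =>
      rw [pow_succ', Module.End.mul_apply]
      exact hU _ ih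
  exact this k

include hs hx hN hxN hind in
/-- Every proper invariant subspace is totally isotropic. -/
theorem isotropic (U : Submodule F V) (hU : ∀ v ∈ U, (x : Module.End F V) v ∈ U) (hne : U ≠ ⊤) :
    ∀ v ∈ U, ∀ w ∈ U, f.B v w = 0 := by
  -- the radical
  have hR : ∀ v ∈ U ⊓ orthS f U, (x : Module.End F V) v ∈ U ⊓ orthS f U := by
    rintro v ⟨h1, h2⟩
    refine ⟨hU v h1, ?_⟩
    change ∀ w ∈ U, f.B ((x : Module.End F V) v) w = 0
    intro w hw
    have h3 := hx v (((x⁻¹ : (Module.End F V)ˣ) : Module.End F V) w)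
    rw [unit_inv_apply] at h3
    rw [h3]
    exact h2 _ (inv_mem hN hxN U hU w hw)
  obtain ⟨q, hq, hqx⟩ := exists_compl x hN hxN (U ⊓ orthS f U) hR
  have h1 : ∀ v ∈ U ⊓ q, (∀ w ∈ U ⊓ q, f.B v w = 0) → v = 0 := by
    rintro v ⟨hvU, hvq⟩ hv
    have h2 : v ∈ (U ⊓ orthS f U) ⊓ q := by
      refine ⟨⟨hvU, ?_⟩, hvq⟩
      change ∀ w ∈ U, f.B v w = 0
      intro w hw
      have h3 : w ∈ (U ⊓ orthS f U) ⊔ q := by rw [hq.sup_eq_top]; trivial
      obtain ⟨a, ha, b, hb, rfl⟩ := Submodule.mem_sup.mp h3
      have hbU : b ∈ U := by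
        have := U.sub_mem hw ha.1
        rwa [add_sub_cancel_left] at this
      rw [f.add_right, hv b ⟨hbU, hb⟩, add_zero]
      exact swap0 hs (ha.2 v hvU)
    rw [hq.inf_eq_bot, Submodule.mem_bot] at h2
    exact h2
  rcases hind (U ⊓ q) (fun v hv => ⟨hU v hv.1, hqx v hv.2⟩) h1 with h | h
  · intro v hv w hw
    have h3 : v ∈ (U ⊓ orthS f U) ⊔ q := by rw [hq.sup_eq_top]; trivial
    obtain ⟨a, ha, b, hb, rfl⟩ := Submodule.mem_sup.mp h3
    have hbU : b ∈ U := by
      have := U.sub_mem hv ha.1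
      rwa [add_sub_cancel_left] at this
    have hb0 : b ∈ U ⊓ q := ⟨hbU, hb⟩
    rw [h, Submodule.mem_bot] at hb0
    rw [hb0, add_zero]
    exact ha.2 w hw
  · exfalso
    apply hne
    rw [eq_top_iff, ← h]
    exact inf_le_left

include hs hnd hx hN hxN hind in
theorem no_unip (hN2 : Odd N) (hfix : ∀ v, (x : Module.End F V) v = v → v = 0)
    {u : (Module.End F V)ˣ} (hu : f.Isom u) (hc : Commute u x)
    (hker : ∀ v, (∀ w, (u : Module.End F V) w = w → w = 0) → v = (0 : V)) : u = 1 := by
  by_contra hne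
  have hnt : ∃ v : V, v ≠ 0 := by
    by_contra h
    push Not at h
    apply hne
    apply Units.ext
    apply LinearMap.ext
    intro v
    rw [h v, map_zero, map_zero]
  obtain ⟨v0, hv0⟩ := hnt
  obtain ⟨w0, hw0, hw0'⟩ : ∃ w, (u : Module.End F V) w = w ∧ w ≠ 0 := by
    by_contra h
    push Not at h
    exact hv0 (hker v0 h)
  have hcx : ∀ v, (u : Module.End F V) ((x : Module.End F V) v) =
      (x : Module.End F V) ((u : Module.End F V) v) := by
    intro v
    exact congrArg (fun z : (Module.End F V)ˣ => (z : Module.End F V) v) hc.eq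
  have hcx' : ∀ v, (u : Module.End F V) (((x⁻¹ : (Module.End F V)ˣ) : Module.End F V) v) =
      ((x⁻¹ : (Module.End F V)ˣ) : Module.End F V) ((u : Module.End F V) v) := by
    intro v
    exact congrArg (fun z : (Module.End F V)ˣ => (z : Module.End F V) v) hc.inv_right.eq
  -- kernel and image of `u - 1`
  have hK : fixS u ≠ ⊤ := by
    intro h
    apply hne
    apply Units.ext
    apply LinearMap.ext
    intro v
    have : v ∈ fixS u := by rw [h]; trivial
    exact mem_fixS.mp this
  have hKb : fixS u ≠ ⊥ := by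
    intro h
    have : w0 ∈ fixS u := mem_fixS.mpr hw0
    rw [h, Submodule.mem_bot] at this
    exact hw0' this
  have hM : comS u ≠ ⊤ := by
    intro h
    apply hKb
    have h1 := LinearMap.finrank_range_add_finrank_ker ((u : Module.End F V) - 1)
    change finrank F (comS u) + finrank F (fixS u) = _ at h1
    rw [h, finrank_top] at h1
    exact Submodule.finrank_eq_zero.mp (by omega)
  have hKi := isotropic hs hx hN hxN hind (fixS u) (fix_inv hc.symm) hK
  have hMi := isotropic hs hx hN hxN hind (comS u) (com_inv hc.symm) hM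
  set n : V → V := fun v => (u : Module.End F V) v - v with hn
  have hnM : ∀ v, n v ∈ comS u := fun v => mem_comS.mpr ⟨v, rfl⟩
  have hnx : ∀ v, n ((x : Module.End F V) v) = (x : Module.End F V) (n v) := by
    intro v
    rw [hn]
    beta_reduce
    rw [hcx, map_sub]
  have hnx' : ∀ v, n (((x⁻¹ : (Module.End F V)ˣ) : Module.End F V) v) =
      ((x⁻¹ : (Module.End F V)ˣ) : Module.End F V) (n v) := by
    intro v
    rw [hn]
    beta_reduce
    rw [hcx', map_sub]
  have hskew : ∀ a b, f.B (n a) b = - f.B a (n b) := by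
    intro a b
    have h1 := hu a b
    have h2 := hMi (n a) (hnM a) (n b) (hnM b)
    have h3 : (u : Module.End F V) a = a + n a := by rw [hn]; beta_reduce; abel
    have h4 : (u : Module.End F V) b = b + n b := by rw [hn]; beta_reduce; abel
    rw [h3, h4, f.add_left, f.add_right, f.add_right, h2] at h1
    linear_combination h1
  -- invariant complement of the kernel
  obtain ⟨q, hq, hqx⟩ := exists_compl x hN hxN (fixS u) (fix_inv hc.symm)
  have hq1 : q ≠ ⊤ := by
    intro h
    apply hKb
    have := hq.inf_eq_bot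
    rwa [h, inf_top_eq] at this
  have hqi := isotropic hs hx hN hxN hind q hqx hq1
  -- the graph
  let φ : V →ₗ[F] V := LinearMap.id +
    ((u : Module.End F V) - 1) ∘ₗ (x : Module.End F V)
  have hφ : ∀ a, φ a = a + n ((x : Module.End F V) a) := fun a => rfl
  have hG : q.map φ ≠ ⊤ := by
    intro h
    have h1 : finrank F (q.map φ) ≤ finrank F q := Submodule.finrank_map_le φ q
    rw [h, finrank_top] at h1
    apply hq1
    exact Submodule.eq_top_of_finrank_eq (le_antisymm (Submodule.finrank_le q) h1)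
  have hGx : ∀ v ∈ q.map φ, (x : Module.End F V) v ∈ q.map φ := by
    rintro v ⟨a, ha, rfl⟩
    refine ⟨(x : Module.End F V) a, hqx a ha, ?_⟩
    rw [hφ, hφ, map_add, hnx ((x : Module.End F V) a)]
  have hGi := isotropic hs hx hN hxN hind (q.map φ) hGx hG
  -- the contradiction
  have hq0 : q = ⊥ := by
    rw [eq_bot_iff]
    intro b hb
    rw [Submodule.mem_bot]
    set c : V := (x : Module.End F V) b - ((x⁻¹ : (Module.End F V)ˣ) : Module.End F V) b with hcdef
    have hcq : c ∈ q := q.sub_mem (hqx b hb) (inv_mem hN hxN q hqx b hb)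
    have h1 : ∀ a ∈ q, f.B a (n c) = 0 := by
      intro a ha
      have h2 := hGi (φ a) ⟨a, ha, rfl⟩ (φ b) ⟨b, hb, rfl⟩
      rw [hφ, hφ, f.add_left, f.add_right, f.add_right, hqi a ha b hb,
        hMi _ (hnM _) _ (hnM _), zero_add, add_zero] at h2
      have h3 : f.B (n ((x : Module.End F V) a)) b =
          - f.B a (n (((x⁻¹ : (Module.End F V)ˣ) : Module.End F V) b)) := by
        rw [hskew, hnx', ← hx a, unit_inv_apply]
      have h4 : n c = n ((x : Module.End F V) b) - n (((x⁻¹ : (Module.End F V)ˣ) : Module.End F V) b) := by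
        rw [hn, hcdef]
        beta_reduce
        rw [map_sub]
        abel
      rw [h4, f.sub_right, sub_eq_add_neg, ← h3]
      exact h2
    have h5 : n c = 0 := by
      apply hnd
      intro w
      apply swap0 hs
      have h6 : w ∈ fixS u ⊔ q := by rw [hq.sup_eq_top]; trivial
      obtain ⟨a, ha, b', hb', rfl⟩ := Submodule.mem_sup.mp h6
      rw [f.add_left, h1 b' hb', add_zero, ← neg_eq_zero, ← hskew]
      have : n a = 0 := by
        rw [hn]
        beta_reduce
        rw [mem_fixS.mp ha, sub_self]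
      rw [this, f.zero_left]
    have h7 : c ∈ fixS u ⊓ q := by
      refine ⟨mem_fixS.mpr ?_, hcq⟩
      exact sub_eq_zero.mp h5
    rw [hq.inf_eq_bot, Submodule.mem_bot] at h7
    exact eq_zero_of_inv hN2 hxN hfix b (sub_eq_zero.mp h7)
  apply hK
  have := hq.sup_eq_top
  rwa [hq0, sup_bot_eq] at this

end Unip

end H17.SpecUni
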