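import Mathlib
import Cfsg.Agent.Lib.H17.SpecPO
import Cfsg.Agent.Lib.H17.SpecUni

set_option autoImplicit false
set_option linter.unusedSectionVars false

/-! Counting vectors of given norm in odd dimension, and the sign of free isometries. -/

namespace H17.SpecCount

open Module QuadraticMap H17.OrthAbs H46.SForm H46.SForm.SForm H46.ProdUnit H17.SpecPO H17.SpecConv
  H7.HypStd H48.QuadStd

universe u

/-- The number of solutions of `a x² = c`. -/
theorem cnt_one {F : Type*} [Field F] [Finite F] (h2 : (2 : F) ≠ 0) {a c : F} (ha : a ≠ 0)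
    (hc : c ≠ 0) : ∃ e : ℤ, (e = 1 ∨ e = -1) ∧ (cnt (qOdd 0 F a) c : ℤ) = 1 + e := by
  classical
  unfold cnt
  have hval : ∀ v : Unit ⊕ (Fin 0 ⊕ Fin 0) → F, qOdd 0 F a v = a * v (.inl ()) ^ 2 := by
    intro v
    rw [qOdd_apply]
    simp
  have hE : Nat.card {v : Unit ⊕ (Fin 0 ⊕ Fin 0) → F // qOdd 0 F a v = c} =
      Nat.card {t : F // a * t ^ 2 = c} := by
    apply Nat.card_congr
    refine ⟨fun v => ⟨v.1 (.inl ()), by rw [← hval]; exact v.2⟩,
      fun t => ⟨Sum.elim (fun _ => t.1) (Sum.elim (fun i => i.elim0) (fun i => i.elim0)), by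
        rw [hval]; exact t.2⟩, fun v => ?_, fun t => ?_⟩
    · apply Subtype.ext
      funext i
      rcases i with i | i | i
      · rfl
      · exact i.elim0
      · exact i.elim0
    · rfl
  rw [hE]
  by_cases h : ∃ t : F, a * t ^ 2 = c
  · obtain ⟨t, ht⟩ := h
    refine ⟨1, Or.inl rfl, ?_⟩
    have ht0 : t ≠ 0 := by
      rintro rfl
      apply hc
      rw [← ht]; ring
    have h3 : t ≠ -t := by
      intro h
      apply ht0
      have : (2 : F) * t = 0 := by linear_combination h
      exact (mul_eq_zero.mp this).resolve_left h2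
    have : Nat.card {s : F // a * s ^ 2 = c} = 2 := by
      have h4 : {s : F | a * s ^ 2 = c} = {t, -t} := by
        ext s
        simp only [Set.mem_ofPred_eq, Set.mem_insert_iff, Set.mem_singleton_iff]
        constructor
        · intro hs
          have : (s - t) * (s + t) = 0 := by
            apply mul_left_cancel₀ ha
            linear_combination hs - ht
          rcases mul_eq_zero.mp this with h | h
          · left; exact sub_eq_zero.mp h
          · right; exact eq_neg_of_add_eq_zero_left h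
        · rintro (rfl | rfl)
          · exact ht
          · rw [neg_sq]; exact ht
      have h5 : Nat.card {s : F // a * s ^ 2 = c} = Set.ncard {s : F | a * s ^ 2 = c} := rfl
      rw [h5, h4, Set.ncard_pair h3]
    rw [this]
    norm_num
  · refine ⟨-1, Or.inr rfl, ?_⟩
    have : Nat.card {s : F // a * s ^ 2 = c} = 0 := by
      rw [Nat.card_eq_zero]
      left
      exact ⟨fun s => h ⟨s.1, s.2⟩⟩
    rw [this]
    norm_num

theorem cnt_odd_val {F : Type*} [Field F] [Finite F] (h2 : (2 : F) ≠ 0) {a c : F} (ha : a ≠ 0)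
    (hc : c ≠ 0) (m : ℕ) : ∃ e : ℤ, (e = 1 ∨ e = -1) ∧
      (cnt (qOdd m F a) c : ℤ) = (Nat.card F : ℤ) ^ (2 * m) + e * (Nat.card F : ℤ) ^ m := by
  obtain ⟨e, he, h0⟩ := cnt_one h2 ha hc
  refine ⟨e, he, ?_⟩
  induction m with
  | zero => rw [h0]; simp
  | succ m ih =>
    rw [cnt_congr (odd_succ m a), cnt_hyp, card_odd]
    have hq : 1 ≤ Nat.card F := Nat.card_pos
    push_cast [Nat.cast_sub hq]
    rw [ih]
    ring

theorem card_norm {F : Type*} [Field F] [Finite F] (h2 : (2 : F) ≠ 0) {V : Type u}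
    [AddCommGroup V] [Module F V] {f : SForm F V (RingHom.id F)} (hs : f.Sym 1) (hnd : f.ND)
    {m : ℕ} (hd : finrank F V = 2 * m + 1) {c : F} (hc : c ≠ 0) :
    ∃ e : ℤ, (e = 1 ∨ e = -1) ∧ (Nat.card {v : V // Qof f v = c} : ℤ) =
      (Nat.card F : ℤ) ^ (2 * m) + e * (Nat.card F : ℤ) ^ m := by
  have hfd : FiniteDimensional F V := Module.finite_of_finrank_pos (by omega)
  obtain ⟨-, a, ha, he⟩ := classify_odd m V (Qof f) (nd_Qof h2 hs hnd) hd
  obtain ⟨e, he1, he2⟩ := cnt_odd_val h2 ha hc m
  refine ⟨e, he1, ?_⟩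
  rw [← he2, ← cnt_congr he]
  rfl

/-- Signs of isometries acting freely outside a subspace. -/
theorem sign_free {F : Type*} [Field F] [Finite F] (h2 : (2 : F) ≠ 0) {V : Type u}
    [AddCommGroup V] [Module F V] [FiniteDimensional F V] {f : SForm F V (RingHom.id F)}
    (hs : f.Sym 1) {u : (Module.End F V)ˣ} (hu : u ∈ Om f) (c : F) {N : ℕ} (hN : Even N)
    (hN0 : 0 < N) (hpow : u ^ N = 1)
    (hfree : ∀ v, (u : Module.End F V) v ≠ v → ∀ k : ℕ, ((u : Module.End F V) ^ k) v = v → N ∣ k) :
    ∃ j : ℕ, Nat.card {v : V // Qof f v = c} =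
      2 * N * j + Nat.card {v : V // Qof f v = c ∧ (u : Module.End F V) v = v} := by
  classical
  have hV : Finite V := Module.finite_of_finite F
  have hth := theta_eq_one h2 hs hu c
  letI := Fintype.ofFinite {x : V // Qof f x = c}
  set g := toO f u (isom_of_mem h2 hs hu) with hg
  have hth' : Equiv.Perm.sign (H17.OrthTheta.permX (Qof f) c g) = 1 := by
    rw [← hth, H17.OrthTheta.theta]
    rfl
  set σ := H17.OrthTheta.permX (Qof f) c g with hσ
  have hσp : ∀ (k : ℕ) (x : {x : V // Qof f x = c}), ((σ ^ k) x).1 = ((u : Module.End F V) ^ k) x.1 := by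
    intro k
    induction k with
    | zero => intro x; rfl
    | succ k ih =>
      intro x
      rw [pow_succ, Equiv.Perm.mul_apply, ih, pow_succ, Module.End.mul_apply]
      rfl
  have hσ1 : ∀ x : {x : V // Qof f x = c}, (σ x).1 = (u : Module.End F V) x.1 := fun x => rfl
  obtain ⟨j, hj, hsgn⟩ := H17.SpecUni.sign_eq σ N hN (by
    ext x
    rw [hσp, ← Units.val_pow_eq_pow_val, hpow]
    rfl) (by
    intro x hx k hk
    apply hfree x.1
    · intro h
      exact hx (Subtype.ext h)
    · rw [← hσp, hk]) hN0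
  rw [hsgn] at hth'
  have hj2 : Even j := by
    rcases Nat.even_or_odd j with h | h
    · exact h
    · rw [h.neg_one_pow] at hth'
      exact absurd hth' (by decide)
  obtain ⟨i, rfl⟩ := hj2
  refine ⟨i, ?_⟩
  have h3 : Nat.card {x : {x : V // Qof f x = c} // σ x = x} =
      Nat.card {v : V // Qof f v = c ∧ (u : Module.End F V) v = v} := by
    apply Nat.card_congr
    exact
      { toFun := fun x => ⟨x.1.1, x.1.2, by rw [← hσ1, x.2]⟩
        invFun := fun x => ⟨⟨x.1, x.2.1⟩, Subtype.ext x.2.2⟩
        left_inv := fun x => rfl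
        right_inv := fun x => rfl }
  rw [← h3]
  have h4 : Nat.card {x : {x : V // Qof f x = c} // σ x = x} =
      (Finset.univ.filter fun x => σ x = x).card := by
    rw [Nat.card_eq_fintype_card, Fintype.card_subtype]
  have h5 : σ.support = Finset.univ.filter fun x => ¬ σ x = x := by
    ext x
    simp [Equiv.Perm.mem_support]
  have h6 := Finset.card_filter_add_card_filter_not (s := (Finset.univ : Finset {x : V // Qof f x = c}))
    (fun x => σ x = x)
  rw [← h5, hj, Finset.card_univ, ← Nat.card_eq_fintype_card, ← h4] at h6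
  rw [← h6]
  ring

end H17.SpecCount
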