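import Mathlib
import Cfsg.Agent.Lib.H17.SpecCount
import Cfsg.Agent.Lib.H46.UnipModel
import Cfsg.Agent.Lib.H46.SpDich
import Cfsg.Agent.Lib.H46.Irr
import Cfsg.Agent.Lib.H46.Orders

set_option autoImplicit false
set_option linter.unusedSectionVars false

/-! Structure of isometries of prime order of symplectic and odd-dimensional orthogonal spaces. -/

namespace H17.SpecStr

open Module QuadraticMap H17.OrthAbs H46.SForm H46.SForm.SForm H46.ProdUnit H46.ProjOrder
  H17.SpecPO H17.SpecConv H17.SpecUni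

universe u

section Basic

variable {F : Type*} [Field F] [Finite F] {V : Type*} [AddCommGroup V] [Module F V]
  [FiniteDimensional F V]

/-- A unit as a permutation of an invariant subspace. -/
theorem dvd_of_fpf {x : (Module.End F V)ˣ} {r : ℕ} [Fact r.Prime] (hxr : x ^ r = 1)
    (hfix : ∀ v, (x : Module.End F V) v = v → v = 0) (hrF : (r : F) ≠ 0) :
    r ∣ Nat.card F ^ finrank F V - 1 := by
  have hV : Finite V := Module.finite_of_finite F
  let σ : Equiv.Perm V := (LinearMap.GeneralLinearGroup.generalLinearEquiv F V x).toEquiv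
  have hσ : ∀ v, σ v = (x : Module.End F V) v := fun v => rfl
  have hp : ∀ k : ℕ, ∀ v, (σ ^ k) v = ((x : Module.End F V) ^ k) v := by
    intro k
    induction k with
    | zero => intro v; rfl
    | succ k ih => intro v; rw [pow_succ, Equiv.Perm.mul_apply, ih, pow_succ]; rfl
  have h1 := free_modEq σ r (by
    ext v
    rw [hp, ← Units.val_pow_eq_pow_val, hxr]
    rfl)
  have h2 : Nat.card {v // σ v = v} = 1 := by
    rw [Nat.card_eq_one_iff_unique]
    refine ⟨⟨fun a b => ?_⟩, ⟨⟨0, by rw [hσ, map_zero]⟩⟩⟩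
    apply Subtype.ext
    rw [hfix a.1 a.2, hfix b.1 b.2]
  rw [h2, Module.natCard_eq_pow_finrank (K := F)] at h1
  exact (Nat.modEq_iff_dvd' (Nat.one_le_pow _ _ Nat.card_pos)).mp h1.symm

/-- A unipotent unit of a non-zero space fixes a non-zero vector. -/
theorem exists_fixed (p : ℕ) [Fact p.Prime] [CharP F p] {y : (Module.End F V)ˣ}
    (hy : y ^ p = 1) (v : V) (h : ∀ w, (y : Module.End F V) w = w → w = 0) : v = 0 := by
  by_contra hv
  have hV : Finite V := Module.finite_of_finite F
  haveI : Nontrivial V := ⟨⟨v, 0, hv⟩⟩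
  let σ : Equiv.Perm V := (LinearMap.GeneralLinearGroup.generalLinearEquiv F V y).toEquiv
  have hσ : ∀ v, σ v = (y : Module.End F V) v := fun v => rfl
  have hp : ∀ k : ℕ, ∀ v, (σ ^ k) v = ((y : Module.End F V) ^ k) v := by
    intro k
    induction k with
    | zero => intro v; rfl
    | succ k ih => intro v; rw [pow_succ, Equiv.Perm.mul_apply, ih, pow_succ]; rfl
  have h1 := free_modEq σ p (by
    ext v
    rw [hp, ← Units.val_pow_eq_pow_val, hy]
    rfl)
  have h2 : Nat.card {v // σ v = v} = 1 := by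
    rw [Nat.card_eq_one_iff_unique]
    refine ⟨⟨fun a b => ?_⟩, ⟨⟨0, by rw [hσ, map_zero]⟩⟩⟩
    apply Subtype.ext
    rw [h a.1 a.2, h b.1 b.2]
  have h3 : p ∣ Nat.card F := by
    have hf : Fintype F := Fintype.ofFinite F
    obtain ⟨n, -, hn⟩ := FiniteField.card F p
    rw [Nat.card_eq_fintype_card, hn]
    exact dvd_pow_self p n.2.ne'
  have h4 : p ∣ Nat.card V := by
    rw [Module.natCard_eq_pow_finrank (K := F)]
    exact h3.trans (dvd_pow_self _ finrank_pos.ne')
  rw [h2] at h1
  have h5 : p ∣ 1 := (h1.dvd_iff dvd_rfl).mp h4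
  exact (Fact.out : p.Prime).one_lt.ne' (Nat.dvd_one.mp h5)

/-- A non-degenerate space with a fixed-point-free isometry of odd order has even dimension. -/
theorem even_of_fpf (h2 : (2 : F) ≠ 0) {f : SForm F V (RingHom.id F)} {ε : F}
    (hε : ε = 1 ∨ ε = -1) (hs : f.Sym ε) (hnd : f.ND) {x : (Module.End F V)ˣ} (hx : f.Isom x)
    {N : ℕ} (hN : Odd N) (hxN : x ^ N = 1) (hfix : ∀ v, (x : Module.End F V) v = v → v = 0) :
    Even (finrank F V) := by
  rcases hε with rfl | rfl
  · exact even_finrank (alt_of_sym h2 (tw_sym hs hx)) (tw_nd hnd (eq_zero_of_inv hN hxN hfix))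
  · exact even_finrank (alt_of_sym h2 hs) hnd

theorem dvd_half {q r e : ℕ} (hr : r.Prime) (hq : 1 ≤ q) (h : r ∣ q ^ (2 * e) - 1) :
    r ∣ q ^ e - 1 ∨ r ∣ q ^ e + 1 := by
  have h1 : q ^ (2 * e) - 1 = (q ^ e + 1) * (q ^ e - 1) := by
    rw [mul_comm 2 e, pow_mul, ← Nat.sq_sub_sq, one_pow]
  rw [h1] at h
  rcases hr.dvd_mul.mp h with h | h
  · exact Or.inr h
  · exact Or.inl h

/-- Indecomposability. -/
theorem indec (h2 : (2 : F) ≠ 0) {f : SForm F V (RingHom.id F)} {ε : F}
    (hε : ε = 1 ∨ ε = -1) (hs : f.Sym ε) {x : (Module.End F V)ˣ} (hx : f.Isom x)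
    {r : ℕ} [Fact r.Prime] (hr2 : Odd r) (hrF : (r : F) ≠ 0) (hxr : x ^ r = 1)
    (hfix : ∀ v, (x : Module.End F V) v = v → v = 0) {n : ℕ} (hd : finrank F V ≤ 2 * n)
    (hT : ∀ d, 0 < d → d < n → ¬ (r ∣ Nat.card F ^ d - 1 ∨ r ∣ Nat.card F ^ d + 1)) :
    ∀ U : Submodule F V, (∀ v ∈ U, (x : Module.End F V) v ∈ U) →
    (∀ v ∈ U, (∀ w ∈ U, f.B v w = 0) → v = 0) → U = ⊥ ∨ U = ⊤ := by
  intro U hU hUnd
  by_cases hb : U = ⊥
  · exact Or.inl hb
  right
  obtain ⟨w, -, hw⟩ := H46.OrthDec.exists_res x U hU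
  have hwp : ∀ (k : ℕ) (z : U), (((w ^ k : (Module.End F U)ˣ) : Module.End F U) z : V) =
      ((x ^ k : (Module.End F V)ˣ) : Module.End F V) z := by
    intro k z
    rw [Units.val_pow_eq_pow_val, Units.val_pow_eq_pow_val]
    exact H46.OrthDec.res_pow hw k z
  have hwr : w ^ r = 1 := by
    apply Units.ext
    apply LinearMap.ext
    intro z
    apply Subtype.ext
    rw [hwp, hxr]
    rfl
  have hwfix : ∀ z : U, (w : Module.End F U) z = z → z = 0 := by
    intro z hz
    apply Subtype.ext
    apply hfix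
    rw [← hw, hz]
  have h1 := dvd_of_fpf hwr hwfix hrF
  have h3 : Even (finrank F U) := by
    apply even_of_fpf h2 hε (f := f.pull U.subtype) (x := w) (fun v w => hs _ _) ?_ ?_ hr2 hwr hwfix
    · intro v hv
      apply Subtype.ext
      exact hUnd v.1 v.2 (fun z hz => hv ⟨z, hz⟩)
    · intro v z
      change f.B _ _ = f.B _ _
      rw [Submodule.subtype_apply, Submodule.subtype_apply, hw, hw, hx]
      rfl
  obtain ⟨e, he⟩ := h3
  rw [he, ← two_mul] at h1
  have h4 := dvd_half (Fact.out : r.Prime) Nat.card_pos h1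
  have hU0 : finrank F U ≠ 0 := by
    intro h
    exact hb (Submodule.finrank_eq_zero.mp h)
  have he0 : 0 < e := by omega
  have h5 : n ≤ e := by
    by_contra h
    exact hT e he0 (by omega) h4
  apply Submodule.eq_top_of_finrank_eq
  apply le_antisymm (Submodule.finrank_le U)
  omega

/-- The commutator space of an isometry of prime order outside the torus range. -/
theorem finrank_com [Nontrivial V] (h2 : (2 : F) ≠ 0) {f : SForm F V (RingHom.id F)} {ε : F}
    (hε : ε = 1 ∨ ε = -1) (hs : f.Sym ε) (hnd : f.ND) {x : (Module.End F V)ˣ} (hx : f.Isom x)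
    {r : ℕ} [Fact r.Prime] (hr2 : Odd r) (hrF : (r : F) ≠ 0) (hxr : orderOf x = r) {n : ℕ}
    (hT : ∀ d, 0 < d → d < n → ¬ (r ∣ Nat.card F ^ d - 1 ∨ r ∣ Nat.card F ^ d + 1)) :
    2 * n ≤ finrank F (comS x) ∧ Even (finrank F (comS x)) ∧
      r ∣ Nat.card F ^ finrank F (comS x) - 1 := by
  have hxr' : x ^ r = 1 := by rw [← hxr]; exact pow_orderOf_eq_one x
  obtain ⟨g, w, hg1, hg2, hg3, hg4, hg5, hg6⟩ := res_tw hs hnd hx hrF hr2 hxr'
  have hw : w ^ r = 1 := by rw [← hxr, ← hg4]; exact pow_orderOf_eq_one w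
  have h1 := dvd_of_fpf hw hg6 hrF
  have hε' : -ε = 1 ∨ -ε = -1 := by
    rcases hε with rfl | rfl
    · right; rfl
    · left; exact neg_neg 1
  have h3 := even_of_fpf h2 hε' hg1 hg2 hg3 hr2 hw hg6
  refine ⟨?_, h3, h1⟩
  obtain ⟨e, he⟩ := h3
  rw [he, ← two_mul] at h1
  have h4 := dvd_half (Fact.out : r.Prime) Nat.card_pos h1
  have hU0 : finrank F (comS x) ≠ 0 := by
    intro h
    have h5 : comS x = ⊥ := Submodule.finrank_eq_zero.mp h
    have h6 : x = 1 := by
      apply Units.ext
      apply LinearMap.ext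
      intro v
      have : (x : Module.End F V) v - v ∈ comS x := mem_comS.mpr ⟨v, rfl⟩
      rw [h5, Submodule.mem_bot, sub_eq_zero] at this
      exact this
    rw [h6, orderOf_one] at hxr
    exact (Fact.out : r.Prime).one_lt.ne hxr
  have he0 : 0 < e := by omega
  have h5 : n ≤ e := by
    by_contra h
    exact hT e he0 (by omega) h4
  omega

end Basic

section Det

variable {F : Type*} [Field F] {V : Type*} [AddCommGroup V] [Module F V]

theorem det_of_mem {f : SForm F V (RingHom.id F)} {u : (Module.End F V)ˣ} (hu : u ∈ Om f) :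
    LinearMap.det (u : Module.End F V) = 1 := by
  obtain ⟨g, hg, rfl⟩ := hu
  let δ : ↥(O (Qof f)) →* Fˣ := (Units.map (LinearMap.det : Module.End F V →* F)).comp (ev (Qof f))
  have : g ∈ δ.ker := Abelianization.commutator_subset_ker δ hg
  exact congrArg Units.val this

end Det

section Models

variable (F : Type u) [Field F]

/-- The dot product form. -/
def dotF (k : ℕ) : SForm F (Fin k → F) (RingHom.id F) where
  B := fun a b => ∑ i, a i * b i
  add_left := fun a b c => by simp only [Pi.add_apply, add_mul, Finset.sum_add_distrib]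
  add_right := fun a b c => by simp only [Pi.add_apply, mul_add, Finset.sum_add_distrib]
  smul_left := fun c a b => by
    simp only [Pi.smul_apply, smul_eq_mul, Finset.mul_sum]
    exact Finset.sum_congr rfl fun i _ => by ring
  smul_right := fun c a b => by
    simp only [Pi.smul_apply, smul_eq_mul, Finset.mul_sum, RingHom.id_apply]
    exact Finset.sum_congr rfl fun i _ => by ring

theorem dotF_sym (k : ℕ) : (dotF F k).Sym 1 := by
  intro a b
  rw [RingHom.id_apply, one_mul]
  change ∑ i, b i * a i = ∑ i, a i * b i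
  exact Finset.sum_congr rfl fun i _ => mul_comm _ _

theorem dotF_nd (k : ℕ) : (dotF F k).ND := by
  intro a ha
  funext i
  have := ha (Pi.single i 1)
  change ∑ j, a j * (Pi.single i (1 : F) : Fin k → F) j = 0 at this
  rw [Finset.sum_eq_single i] at this
  · simpa using this
  · intro j _ hj
    rw [Pi.single_eq_of_ne hj, mul_zero]
  · intro h
    exact absurd (Finset.mem_univ i) h

theorem dotF_finrank (k : ℕ) : finrank F (Fin k → F) = k := by simp

/-- The quarter turn. -/
def rotE : (F × F) ≃ₗ[F] (F × F) where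
  toFun v := (-v.2, v.1)
  map_add' a b := by ext <;> simp [add_comm]
  map_smul' c a := by ext <;> simp
  invFun v := (v.2, -v.1)
  left_inv v := by ext <;> simp
  right_inv v := by ext <;> simp

/-- The dot product on the plane. -/
def planeF : SForm F (F × F) (RingHom.id F) where
  B := fun a b => a.1 * b.1 + a.2 * b.2
  add_left := fun a b c => by simp only [Prod.fst_add, Prod.snd_add]; ring
  add_right := fun a b c => by simp only [Prod.fst_add, Prod.snd_add]; ring
  smul_left := fun c a b => by simp only [Prod.smul_fst, Prod.smul_snd, smul_eq_mul]; ring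
  smul_right := fun c a b => by
    simp only [Prod.smul_fst, Prod.smul_snd, smul_eq_mul, RingHom.id_apply]; ring

theorem planeF_sym : (planeF F).Sym 1 := by
  intro a b
  rw [RingHom.id_apply, one_mul]
  change b.1 * a.1 + b.2 * a.2 = a.1 * b.1 + a.2 * b.2
  ring

theorem planeF_nd : (planeF F).ND := by
  intro a ha
  have h1 := ha (1, 0)
  have h2 := ha (0, 1)
  change a.1 * 1 + a.2 * 0 = 0 at h1
  change a.1 * 0 + a.2 * 1 = 0 at h2
  ext
  · simpa using h1
  · simpa using h2

/-- The quarter turn as a unit. -/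
noncomputable def rot : (Module.End F (F × F))ˣ :=
  (LinearMap.GeneralLinearGroup.generalLinearEquiv F (F × F)).symm (rotE F)

theorem rot_apply (v : F × F) : (rot F : Module.End F (F × F)) v = (-v.2, v.1) := rfl

theorem rot_isom : (planeF F).Isom (rot F) := by
  intro a b
  rw [rot_apply, rot_apply]
  change -a.2 * -b.2 + a.1 * b.1 = a.1 * b.1 + a.2 * b.2
  ring

theorem orderOf_rot_sq (h2 : (2 : F) ≠ 0) : orderOf (rot F ^ 2) = 2 := by
  have h1 : ∀ v, ((rot F ^ 2 : (Module.End F (F × F))ˣ) : Module.End F (F × F)) v = -v := by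
    intro v
    rw [pow_two, Units.val_mul, Module.End.mul_apply, rot_apply, rot_apply]
    ext <;> simp
  apply orderOf_eq_prime
  · apply Units.ext
    apply LinearMap.ext
    intro v
    rw [pow_two, Units.val_mul, Module.End.mul_apply, h1, h1, neg_neg]
    rfl
  · intro h
    have h3 := h1 (1, 0)
    rw [h] at h3
    have h4 : (1 : F) = -1 := congrArg Prod.fst h3
    apply h2
    linear_combination h4

/-- A regular unipotent isometry of a three-dimensional orthogonal space. -/
theorem exists_three [Finite F] (p : ℕ) [Fact p.Prime] [CharP F p] (h2 : (2 : F) ≠ 0) :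
    ∃ (A : Type u) (_ : AddCommGroup A) (_ : Module F A) (f : SForm F A (RingHom.id F))
      (u : (Module.End F A)ˣ) (E : ℕ), f.Sym 1 ∧ f.ND ∧ finrank F A = 3 ∧ f.Isom u ∧
      orderOf u = p ^ E ∧ 1 ≤ E := by
  have hp : p.Prime := Fact.out
  obtain ⟨A, _, _, τ, hτ, ℓ, β, E, hnd, hττ, hℓτ, hrank, hβ, -, hE, hle⟩ :=
    H46.UnipModel.exists_regular (K := F) p (RingHom.id F) (fun _ => rfl) (-1)
      ⟨rfl, by ring⟩ 1 (by
        rw [RingHom.id_apply]
        intro h
        apply h2
        linear_combination h) 3 (by norm_num)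
  refine ⟨A, inferInstance, inferInstance, H46.SpModels.algForm τ hτ ℓ,
    H46.SpModels.mulUnit F β, E, ?_, hnd, hrank, H46.SpModels.isom_mulUnit τ hτ ℓ β hβ, ?_,
    hle 1 (Or.inr (by norm_num))⟩
  · intro a b
    change ℓ (b * τ a) = 1 * (RingHom.id F) (ℓ (a * τ b))
    have h3 : b * τ a = τ (a * τ b) := by rw [map_mul, hττ, mul_comm]
    rw [h3, hℓτ]
    norm_num
  · rw [H46.SpModels.orderOf_mulUnit, hE]

end Models

theorem projOrder_of_odd {F V : Type*} [Field F] [AddCommGroup V] [Module F V] [Nontrivial V]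
    (h2 : (2 : F) ≠ 0) {f : SForm F V (RingHom.id F)} (hnd : f.ND) {u : (Module.End F V)ˣ}
    (hu : f.Isom u) (ho : Odd (orderOf u)) : projOrder F u = orderOf u := by
  apply Nat.dvd_antisymm (projOrder_dvd_orderOf u)
  obtain ⟨c, hc⟩ := (projOrder_dvd_iff u (projOrder F u)).mp dvd_rfl
  rw [← Units.val_pow_eq_pow_val] at hc
  have hcc : c * c = 1 := norm_one_of_scalar hnd (hu.pow _) hc
  have h1 : c = 1 := by
    rcases mul_self_eq_one_iff.mp hcc with h | h
    · exact h
    · exfalso
      have h3 : ((u ^ projOrder F u) ^ orderOf u : (Module.End F V)ˣ) = 1 := by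
        rw [← pow_mul, mul_comm, pow_mul, pow_orderOf_eq_one, one_pow]
      have h4 := congrArg Units.val h3
      rw [Units.val_pow_eq_pow_val, hc, h, ← map_pow, ho.neg_one_pow, Units.val_one] at h4
      obtain ⟨v, hv⟩ := exists_ne (0 : V)
      have h5 := congrArg (fun z : Module.End F V => z v) h4
      change (algebraMap F (Module.End F V) (-1)) v = v at h5
      rw [Module.algebraMap_end_apply] at h5
      apply hv
      have h6 : (2 : F) • v = 0 := by
        rw [two_smul]
        nth_rewrite 1 [← h5]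
        simp
      exact (smul_eq_zero.mp h6).resolve_left h2
  rw [h1, map_one] at hc
  exact orderOf_dvd_of_pow_eq_one (Units.ext hc)

end H17.SpecStr
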