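import Mathlib
import Cfsg.Agent.Lib.H17.SpecStr

set_option autoImplicit false
set_option linter.unusedSectionVars false

/-! Element orders divisible by `2` and by the characteristic: `PSp(2n,q)` against `PΩ(2n+1,q)`. -/

namespace H17.SpecMain

open Module QuadraticMap H17.OrthAbs H46.SForm H46.SForm.SForm H46.ProdUnit H46.ProjOrder
  H17.SpecPO H17.SpecConv H17.SpecUni H17.SpecStr H46.Irr

universe u v

variable {F : Type u} [Field F] [Finite F] (h2 : (2 : F) ≠ 0)

/-- The element orders of `PSp(2n, q)`. -/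
abbrev oSp (n : ℕ) (F : Type u) [Field F] : Set ℕ := Set.range (orderOf : Cfsg.PSp n F → ℕ)

/-- The element orders of `PΩ(2n+1, q)`. -/
abbrev oO (n : ℕ) (F : Type u) [Field F] : Set ℕ :=
  Set.range (orderOf : Cfsg.POmega F (Cfsg.quadFormOdd n F) → ℕ)

instance finPSp (n : ℕ) : Finite (Cfsg.PSp n F) := by
  have : Finite (Matrix.symplecticGroup (Fin n) F) := Subtype.finite
  exact Quotient.finite _

instance finPO (n : ℕ) : Finite (Cfsg.POmega F (Cfsg.quadFormOdd n F)) := by
  exact Quotient.finite _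

include h2 in
theorem sp_p (p : ℕ) [Fact p.Prime] [CharP F p] {A : Type v} [AddCommGroup A] [Module F A]
    {f : SForm F A (RingHom.id F)} (ha : f.Alt) (hnd : f.ND) {n d : ℕ} (hd : finrank F A = 2 * d)
    (hd0 : 0 < d) (hdn : d < n) {b : (Module.End F A)ˣ} (hb : f.Isom b) (ho : Odd (orderOf b))
    (hc : Nat.Coprime (orderOf b) p) : orderOf b * p ∈ oSp n F := by
  obtain ⟨A', _, _, f', u', E, ha', hnd', hd', hu', ho', hE⟩ :=
    H46.UnipModel.exists_unip_sp (K := F) p h2 (n - d) 1 (by omega) (Or.inr (by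
      rw [Nat.sub_self, pow_zero]; omega))
  haveI : Nontrivial A := Module.nontrivial_of_finrank_pos (R := F) (by omega)
  haveI : FiniteDimensional F A := Module.finite_of_finrank_pos (by omega)
  haveI : FiniteDimensional F A' := Module.finite_of_finrank_pos (by omega)
  have hpo : Odd p := by
    rcases (Fact.out : p.Prime).eq_two_or_odd' with h | h
    · exfalso
      subst h
      exact h2 (by exact_mod_cast CharP.cast_eq_zero F 2)
    · exact h
  have h1 : orderOf (prodUnit b u') = orderOf b * p ^ E := by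
    rw [orderOf_prodUnit, ho', Nat.Coprime.lcm_eq_mul (Nat.Coprime.pow_right E hc)]
  have h3 : Odd (orderOf (prodUnit b u')) := by
    rw [h1]
    exact ho.mul (hpo.pow)
  have h4 := H46.OrdPSp.mem_orders (n := n) (by omega) (f.prod f') (ha.prod ha') (hnd.prod hnd')
    (by rw [finrank_prod, hd, hd']; omega) (prodUnit b u') (hb.prod hu')
  rw [projOrder_of_odd h2 (hnd.prod hnd') (hb.prod hu') h3, h1] at h4
  exact H46.Orders.mem_of_dvd h4 (Nat.mul_dvd_mul_left _ (dvd_pow_self p (by omega)))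

include h2 in
theorem sp_two {A : Type v} [AddCommGroup A] [Module F A]
    {f : SForm F A (RingHom.id F)} (ha : f.Alt) (hnd : f.ND) {n d : ℕ} (hd : finrank F A = 2 * d)
    (hd0 : 0 < d) (hdn : d < n) {b : (Module.End F A)ˣ} (hb : f.Isom b) (ho : Odd (orderOf b)) :
    2 * orderOf b ∈ oSp n F := by
  haveI : Nontrivial A := Module.nontrivial_of_finrank_pos (R := F) (by omega)
  haveI : FiniteDimensional F A := Module.finite_of_finrank_pos (by omega)
  haveI : Nonempty (Fin (n - d) ⊕ Fin (n - d)) := ⟨Sum.inl ⟨0, by omega⟩⟩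
  have hs : Isom (H46.OrdPSp.stdForm (n - d) F) (1 : (Module.End F (Fin (n - d) ⊕ Fin (n - d) → F))ˣ) :=
    Isom.one
  have h1 : orderOf (prodUnit b (1 : (Module.End F (Fin (n - d) ⊕ Fin (n - d) → F))ˣ)) = orderOf b := by
    rw [orderOf_prodUnit, orderOf_one, Nat.lcm_one_right]
  have h3 := H46.OrthDec.projOrder_neg_block h2 hnd b
    (1 : (Module.End F (Fin (n - d) ⊕ Fin (n - d) → F))ˣ) hb (orderOf b) ho h1
  have h4 := H46.OrdPSp.mem_orders (n := n) (by omega) (f.prod (H46.OrdPSp.stdForm (n - d) F))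
    (ha.prod (H46.OrdPSp.stdForm_alt _)) (hnd.prod (H46.OrdPSp.stdForm_nd _))
    (by
      rw [finrank_prod, hd, H17.PSpInvol.finrank_V]; omega)
    (prodUnit (-b) 1) ((H46.OrthDec.isom_neg hb).prod hs)
  rwa [h3] at h4

include h2 in
theorem o_p (p : ℕ) [Fact p.Prime] [CharP F p] {A : Type v} [AddCommGroup A] [Module F A]
    [FiniteDimensional F A] {f : SForm F A (RingHom.id F)} (hs : f.Sym 1) (hnd : f.ND) {n : ℕ}
    (hn : 2 ≤ n) (hd : finrank F A ≤ 2 * n - 2) {b : (Module.End F A)ˣ} (hb : f.Isom b)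
    (ho : Odd (orderOf b)) (hc : Nat.Coprime (orderOf b) p) : orderOf b * p ∈ oO n F := by
  obtain ⟨A₃, _, _, f₃, u₃, E, hs₃, hnd₃, hd₃, hu₃, ho₃, hE⟩ := exists_three F p h2
  haveI : FiniteDimensional F A₃ := Module.finite_of_finrank_pos (by omega)
  have hpo : Odd p := by
    rcases (Fact.out : p.Prime).eq_two_or_odd' with h | h
    · exfalso
      subst h
      exact h2 (by exact_mod_cast CharP.cast_eq_zero F 2)
    · exact h
  set k := 2 * n + 1 - 3 - finrank F A with hk
  have hone : Isom (dotF F k) (1 : (Module.End F (Fin k → F))ˣ) := Isom.one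
  set g := (f.prod f₃).prod (dotF F k) with hg
  have hgs : g.Sym 1 := sym_prod (sym_prod hs hs₃) (dotF_sym F k)
  have hgn : g.ND := (hnd.prod hnd₃).prod (dotF_nd F k)
  have hgd : finrank F ((A × A₃) × (Fin k → F)) = 2 * n + 1 := by
    rw [finrank_prod, finrank_prod, hd₃, dotF_finrank]
    omega
  have h1 : orderOf (prodUnit (prodUnit b u₃) (1 : (Module.End F (Fin k → F))ˣ)) =
      orderOf b * p ^ E := by
    rw [orderOf_prodUnit, orderOf_prodUnit, orderOf_one, Nat.lcm_one_right, ho₃,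
      Nat.Coprime.lcm_eq_mul (Nat.Coprime.pow_right E hc)]
  have h3 := odd_mem h2 hgs hgn (by rw [hgd]; omega) ((hb.prod hu₃).prod hone) (by
    rw [h1]; exact ho.mul hpo.pow)
  have h4 := SpecPO.mem_orders h2 hn hgs hgn hgd h3
  rw [h1] at h4
  exact H46.Orders.mem_of_dvd h4 (Nat.mul_dvd_mul_left _ (dvd_pow_self p (by omega)))

include h2 in
theorem o_two {A : Type v} [AddCommGroup A] [Module F A]
    [FiniteDimensional F A] {f : SForm F A (RingHom.id F)} (hs : f.Sym 1) (hnd : f.ND) {n : ℕ}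
    (hn : 2 ≤ n) (hd : finrank F A ≤ 2 * n - 1) {b : (Module.End F A)ˣ} (hb : f.Isom b)
    (ho : Odd (orderOf b)) : 2 * orderOf b ∈ oO n F := by
  set k := 2 * n + 1 - 2 - finrank F A with hk
  have hone : Isom (dotF F k) (1 : (Module.End F (Fin k → F))ˣ) := Isom.one
  have honeA : f.Isom (1 : (Module.End F A)ˣ) := Isom.one
  have honeP : Isom (planeF F) (1 : (Module.End F (F × F))ˣ) := Isom.one
  set g := (f.prod (planeF F)).prod (dotF F k) with hg
  have hgs : g.Sym 1 := sym_prod (sym_prod hs (planeF_sym F)) (dotF_sym F k)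
  have hgn : g.ND := (hnd.prod (planeF_nd F)).prod (dotF_nd F k)
  have hgd : finrank F ((A × (F × F)) × (Fin k → F)) = 2 * n + 1 := by
    rw [finrank_prod, finrank_prod, finrank_prod, Module.finrank_self, dotF_finrank]
    omega
  have h1 : orderOf (prodUnit (prodUnit b (1 : (Module.End F (F × F))ˣ)) (1 : (Module.End F (Fin k → F))ˣ)) =
      orderOf b := by
    rw [orderOf_prodUnit, orderOf_prodUnit, orderOf_one, orderOf_one, Nat.lcm_one_right,
      Nat.lcm_one_right]
  have h3 := odd_mem h2 hgs hgn (by rw [hgd]; omega) ((hb.prod honeP).prod hone) (by rwa [h1])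
  have h4 := sq_mem h2 hgs hgn (by rw [hgd]; omega) ((honeA.prod (rot_isom F)).prod hone)
  have h5 := mul_mem h3 h4
  rw [prodUnit_pow, prodUnit_pow, one_pow, one_pow, prodUnit_mul, prodUnit_mul, one_mul, one_mul,
    mul_one] at h5
  have h6 := SpecPO.mem_orders h2 hn hgs hgn hgd h5
  rw [orderOf_prodUnit, orderOf_prodUnit, orderOf_one, Nat.lcm_one_right, orderOf_rot_sq F h2,
    Nat.Coprime.lcm_eq_mul (Nat.coprime_two_right.mpr ho), mul_comm] at h6
  exact h6

end H17.SpecMain
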