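import Cfsg.Agent.Lib.H17.QuatPair2
import Cfsg.Agent.Lib.H98.DicksonPGL

set_option autoImplicit false
set_option linter.unusedSectionVars false

/-! Subfield subgroups of `PSL₂(q)`. -/

namespace H17.SubfieldPSL

open Matrix H45.SL2

/-- Embedding of finite fields. -/
theorem exists_ringHom {K F : Type*} [Field K] [Field F] [Finite K] [Finite F] (m : ℕ)
    (h : Nat.card K ^ m = Nat.card F) : Nonempty (K →+* F) := by
  classical
  have := Fintype.ofFinite K
  have := Fintype.ofFinite F
  obtain ⟨p, hp⟩ := CharP.exists K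
  obtain ⟨p', hp'⟩ := CharP.exists F
  have hpp : p.Prime := (CharP.char_is_prime_or_zero K p).resolve_right (by
    rintro rfl
    exact CharP.char_ne_zero_of_finite K 0 rfl)
  have hpp' : p'.Prime := (CharP.char_is_prime_or_zero F p').resolve_right (by
    rintro rfl
    exact CharP.char_ne_zero_of_finite F 0 rfl)
  have : Fact p.Prime := ⟨hpp⟩
  have : Fact p'.Prime := ⟨hpp'⟩
  obtain ⟨k, -, hk⟩ := FiniteField.card K p
  obtain ⟨l, -, hl⟩ := FiniteField.card F p'
  rw [Nat.card_eq_fintype_card, Nat.card_eq_fintype_card, hk, hl, ← pow_mul] at h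
  have hpeq : p = p' := by
    have h1 : p' ∣ p ^ ((k : ℕ) * m) := by rw [h]; exact dvd_pow_self p' l.ne_zero
    exact ((Nat.prime_dvd_prime_iff_eq hpp' hpp).mp (hpp'.dvd_of_dvd_pow h1)).symm
  subst hpeq
  let _ : Algebra (ZMod p) K := ZMod.algebra K p
  let _ : Algebra (ZMod p) F := ZMod.algebra F p
  have hkl : (k : ℕ) * m = l := Nat.pow_right_injective hpp.two_le h
  have e1 : Module.finrank (ZMod p) K = k := by
    have := Module.card_eq_pow_finrank (K := ZMod p) (V := K)
    rw [ZMod.card, hk] at this
    exact (Nat.pow_right_injective hpp.two_le this).symm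
  have e2 : Module.finrank (ZMod p) F = l := by
    have := Module.card_eq_pow_finrank (K := ZMod p) (V := F)
    rw [ZMod.card, hl] at this
    exact (Nat.pow_right_injective hpp.two_le this).symm
  obtain ⟨f⟩ := FiniteField.nonempty_algHom_of_finrank_dvd (F := ZMod p) (K := K) (L := F)
    (by rw [e1, e2, ← hkl]; exact dvd_mul_right _ _)
  exact ⟨f.toRingHom⟩

variable {K F : Type*} [Field K] [Field F]

/-- Subfield embedding `PSL₂(K) → PSL₂(F)`. -/
theorem exists_pslHom (f : K →+* F) :
    ∃ φ : ProjectiveSpecialLinearGroup (Fin 2) K →* ProjectiveSpecialLinearGroup (Fin 2) F,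
      Function.Injective φ := by
  have hle : Subgroup.center (SpecialLinearGroup (Fin 2) K) ≤
      (Subgroup.center (SpecialLinearGroup (Fin 2) F)).comap (SpecialLinearGroup.map f) := by
    intro x hx
    rw [mem_center_iff] at hx
    rw [Subgroup.mem_comap, mem_center_iff]
    rcases hx with rfl | rfl
    · left; exact map_one _
    · right
      apply Subtype.ext
      ext i j
      change f ((-1 : Matrix (Fin 2) (Fin 2) K) i j) = (-1 : Matrix (Fin 2) (Fin 2) F) i j
      rw [Matrix.neg_apply, Matrix.neg_apply, map_neg, Matrix.one_apply, Matrix.one_apply]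
      split_ifs <;> simp
  refine ⟨QuotientGroup.map _ _ (SpecialLinearGroup.map f) hle, ?_⟩
  rw [injective_iff_map_eq_one]
  intro x hx
  obtain ⟨x, rfl⟩ := QuotientGroup.mk_surjective x
  rw [QuotientGroup.map_mk, QuotientGroup.eq_one_iff, mem_center_iff] at hx
  rw [QuotientGroup.eq_one_iff, mem_center_iff]
  rcases hx with hx | hx
  · left
    apply Subtype.ext
    ext i j
    have h1 := congrArg (fun z : SpecialLinearGroup (Fin 2) F => z.1 i j) hx
    have h2 : f (x.1 i j) = (1 : Matrix (Fin 2) (Fin 2) F) i j := h1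
    apply f.injective
    rw [h2]
    change (1 : Matrix (Fin 2) (Fin 2) F) i j = f ((1 : Matrix (Fin 2) (Fin 2) K) i j)
    rw [Matrix.one_apply, Matrix.one_apply]
    split_ifs <;> simp
  · right
    apply Subtype.ext
    ext i j
    have h1 := congrArg (fun z : SpecialLinearGroup (Fin 2) F => z.1 i j) hx
    have h2 : f (x.1 i j) = (-1 : Matrix (Fin 2) (Fin 2) F) i j := h1
    apply f.injective
    rw [h2]
    change (-1 : Matrix (Fin 2) (Fin 2) F) i j = f ((-1 : Matrix (Fin 2) (Fin 2) K) i j)
    rw [Matrix.neg_apply, Matrix.neg_apply, map_neg, Matrix.one_apply, Matrix.one_apply]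
    split_ifs <;> simp

/-- Injective homomorphisms give subgroups. -/
theorem exists_subgroup {G H : Type*} [Group G] [Group H] (φ : G →* H)
    (hφ : Function.Injective φ) : ∃ U : Subgroup H, Nonempty (U ≃* G) :=
  ⟨φ.range, ⟨(MonoidHom.ofInjective hφ).symm⟩⟩

/-- If all elements of `K` become squares in `F` then `PGL₂(K)` embeds in `PSL₂(F)`. -/
theorem exists_pglHom (f : K →+* F) (hsq : ∀ a : K, a ≠ 0 → IsSquare (f a)) :
    ∃ U : Subgroup (ProjectiveSpecialLinearGroup (Fin 2) F),
      Nonempty (U ≃* ProjGenLinGroup (Fin 2) K) := by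
  classical
  -- square roots of determinants
  have hex : ∀ g : GeneralLinearGroup (Fin 2) K, ∃ c : F, c ≠ 0 ∧ f g.1.det = c * c := by
    intro g
    have hdet : g.1.det ≠ 0 := by
      have := (isUnit_iff_isUnit_det g.1).mp g.isUnit
      exact this.ne_zero
    obtain ⟨c, hc⟩ := hsq _ hdet
    refine ⟨c, ?_, hc⟩
    rintro rfl
    rw [mul_zero] at hc
    exact hdet ((map_eq_zero f).mp hc)
  choose c hc0 hc using hex
  have hdet1 : ∀ g : GeneralLinearGroup (Fin 2) K, ((c g)⁻¹ • g.1.map f).det = 1 := by
    intro g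
    have h1 : (g.1.map f).det = f g.1.det := by
      rw [RingHom.map_det]; rfl
    rw [det_smul, Fintype.card_fin, h1, hc]
    have := hc0 g
    field_simp
  let s : GeneralLinearGroup (Fin 2) K → SpecialLinearGroup (Fin 2) F := fun g =>
    ⟨(c g)⁻¹ • g.1.map f, hdet1 g⟩
  have hs : ∀ g, (s g).1 = (c g)⁻¹ • g.1.map f := fun g => rfl
  -- equality criterion
  have key : ∀ (x y : SpecialLinearGroup (Fin 2) F) (a : F), x.1 = a • y.1 →
      (QuotientGroup.mk x : ProjectiveSpecialLinearGroup (Fin 2) F) = QuotientGroup.mk y := by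
    intro x y a hxy
    have h1 := x.2
    rw [hxy, det_smul, y.2, mul_one, Fintype.card_fin] at h1
    have h3 : (a - 1) * (a + 1) = 0 := by linear_combination h1
    apply H17.QuatPair.pr_eq.mpr
    rcases mul_eq_zero.mp h3 with h4 | h4
    · left
      apply Subtype.ext
      rw [hxy, show a = 1 by linear_combination h4, one_smul]
    · right
      apply Subtype.ext
      rw [hxy, show a = -1 by linear_combination h4, neg_smul, one_smul]; rfl
  let φ : GeneralLinearGroup (Fin 2) K →* ProjectiveSpecialLinearGroup (Fin 2) F :=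
    { toFun := fun g => QuotientGroup.mk (s g)
      map_one' := by
        rw [← QuotientGroup.mk_one]
        apply key _ _ (c 1)⁻¹
        rw [hs]
        congr 1
        rw [Units.val_one]
        exact Matrix.map_one f (map_zero f) (map_one f)
      map_mul' := by
        intro g h
        rw [← QuotientGroup.mk_mul]
        apply key _ _ ((c (g * h))⁻¹ * (c g * c h))
        change (c (g * h))⁻¹ • (g * h).1.map f = _ • ((s g).1 * (s h).1)
        rw [hs, hs, smul_mul_assoc, mul_smul_comm, smul_smul, smul_smul, Units.val_mul,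
          Matrix.map_mul]
        congr 1
        have h1 := hc0 g
        have h2 := hc0 h
        have h3 := hc0 (g * h)
        field_simp }
  have hφ : ∀ g, φ g = QuotientGroup.mk (s g) := fun g => rfl
  have hker : φ.ker = Subgroup.center (GeneralLinearGroup (Fin 2) K) := by
    ext g
    rw [MonoidHom.mem_ker, hφ, GeneralLinearGroup.center_eq_range_scalar]
    constructor
    · intro h
      have h1 : s g = 1 ∨ s g = -1 := H17.QuatPair.pr_eq_one.mp h
      -- `g` is scalar
      obtain ⟨d, hd⟩ : ∃ d : F, g.1.map f = d • (1 : Matrix (Fin 2) (Fin 2) F) := by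
        rcases h1 with h1 | h1
        · refine ⟨c g, ?_⟩
          have h2 : (c g)⁻¹ • g.1.map f = 1 := congrArg Subtype.val h1
          rw [← h2, smul_smul, mul_inv_cancel₀ (hc0 g), one_smul]
        · refine ⟨-(c g), ?_⟩
          have h2 : (c g)⁻¹ • g.1.map f = -1 := congrArg Subtype.val h1
          have h3 : (1 : Matrix (Fin 2) (Fin 2) F) = -((c g)⁻¹ • g.1.map f) := by
            rw [h2, neg_neg]
          rw [h3, smul_neg, neg_smul, neg_neg, smul_smul, mul_inv_cancel₀ (hc0 g), one_smul]
      have h01 : g.1 0 1 = 0 := by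
        have := congrFun (congrFun hd 0) 1
        simp at this
        exact this
      have h10 : g.1 1 0 = 0 := by
        have := congrFun (congrFun hd 1) 0
        simp at this
        exact this
      have h00 : g.1 0 0 = g.1 1 1 := by
        have e1 := congrFun (congrFun hd 0) 0
        have e2 := congrFun (congrFun hd 1) 1
        simp at e1 e2
        apply f.injective
        rw [e1, e2]
      have hne : g.1 0 0 ≠ 0 := by
        intro h0
        have hdet : g.1.det = 0 := by
          rw [det_fin_two, h0, h01]; ring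
        have := (isUnit_iff_isUnit_det g.1).mp g.isUnit
        rw [hdet] at this
        exact not_isUnit_zero this
      refine ⟨Units.mk0 _ hne, ?_⟩
      apply Units.ext
      ext i j
      fin_cases i <;> fin_cases j
      · simp
      · simp [h01]
      · simp [h10]
      · simp [h00]
    · rintro ⟨u, rfl⟩
      rw [← QuotientGroup.mk_one]
      apply key _ _ ((c (GeneralLinearGroup.scalar (Fin 2) u))⁻¹ * f u)
      rw [hs]
      ext i j
      fin_cases i <;> fin_cases j <;> simp
  refine ⟨φ.range, ⟨?_⟩⟩
  exact (QuotientGroup.quotientKerEquivRange φ).symm.trans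
    (QuotientGroup.quotientMulEquivOfEq hker)

/-- Elements of a subfield of even codegree are squares. -/
theorem isSquare_of_even [Finite K] [Fintype F] (f : K →+* F) (m : ℕ) (hm : Even m)
    (hodd : Odd (Fintype.card F)) (h : Nat.card K ^ m = Fintype.card F) (a : K) (ha : a ≠ 0) :
    IsSquare (f a) := by
  classical
  have := Fintype.ofFinite K
  have hF2 : ringChar F ≠ 2 := ringChar_ne_two_of_odd hodd
  have hfa : f a ≠ 0 := (map_ne_zero f).mpr ha
  rw [FiniteField.isSquare_iff hF2 hfa]
  rw [Nat.card_eq_fintype_card] at h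
  -- `(r - 1) ∣ (q / 2)`
  obtain ⟨k, rfl⟩ := hm
  have hr1 : 1 < Fintype.card K := Fintype.one_lt_card
  have hrodd : Odd (Fintype.card K) := by
    rw [← Nat.not_even_iff_odd]
    intro he
    have hk0 : k + k ≠ 0 := by
      intro h1
      rw [h1, pow_zero] at h
      have := Fintype.one_lt_card (α := F)
      omega
    have h1 : Even (Fintype.card K ^ (k + k)) := he.pow_of_ne_zero hk0
    rw [h] at h1
    exact (Nat.not_even_iff_odd.mpr hodd) h1
  obtain ⟨t, ht⟩ := hrodd
  have hdvd : Fintype.card K - 1 ∣ Fintype.card F / 2 := by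
    -- `q = s²` with `s = r^k`; `s - 1` divisible by `r - 1`, `s + 1` even
    have h1 : Fintype.card K - 1 ∣ Fintype.card K ^ k - 1 := by
      simpa using Nat.sub_dvd_pow_sub_pow (Fintype.card K) 1 k
    have h2 : Odd (Fintype.card K ^ k) := by rw [ht]; exact (by exact ⟨t, rfl⟩ : Odd (2 * t + 1)).pow
    obtain ⟨u, hu⟩ := h2
    obtain ⟨v, hv⟩ := h1
    refine ⟨v * (u + 1), ?_⟩
    have h3 : Fintype.card F = (2 * u + 1) * (2 * u + 1) := by
      rw [← h, pow_add, hu]
    have h4 : 2 * u = (Fintype.card K - 1) * v := by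
      rw [← hv, hu]; omega
    have h5 : Fintype.card F = 2 * (2 * u * (u + 1)) + 1 := by rw [h3]; ring
    rw [h5, h4]
    have : (2 * ((Fintype.card K - 1) * v * (u + 1)) + 1) / 2 =
        (Fintype.card K - 1) * v * (u + 1) := by omega
    rw [this, mul_assoc]
  obtain ⟨w, hw⟩ := hdvd
  rw [hw, pow_mul, ← map_pow, FiniteField.pow_card_sub_one_eq_one a ha, map_one, one_pow]

end H17.SubfieldPSL
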