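import Cfsg.Agent.Lib.H17.U3R

set_option autoImplicit false
set_option maxRecDepth 100000

/-! `PSU 3 F 5` has a subgroup of index 50 (the stabiliser of a set of 105 nonisotropic points). -/

namespace H17.U35

open Matrix MulAction H17.U3A
open scoped LinearAlgebra.Projectivization Pointwise

/-- `(a, b)` stands for `a + b ω` with `ω ^ 2 = - 1 - ω`, modulo `5` -/
abbrev E := ℕ × ℕ
abbrev V := E × E × E
abbrev M := V × V × V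

def ad (x y : E) : E := ((x.1 + y.1) % 5, (x.2 + y.2) % 5)
def ml (x y : E) : E := ((x.1 * y.1 + 4 * (x.2 * y.2)) % 5, (x.1 * y.2 + x.2 * y.1 + 4 * (x.2 * y.2)) % 5)
def ng (x : E) : E := ((4 * x.1) % 5, (4 * x.2) % 5)
def cj (x : E) : E := ((x.1 + 4 * x.2) % 5, (4 * x.2) % 5)
def nz (x : E) : Bool := (x.1 % 5 != 0) || (x.2 % 5 != 0)
def dot (u v : V) : E := ad (ml u.1 v.1) (ad (ml u.2.1 v.2.1) (ml u.2.2 v.2.2))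
def mv (A : M) (v : V) : V := (dot A.1 v, dot A.2.1 v, dot A.2.2 v)
def sm (c : E) (v : V) : V := (ml c v.1, ml c v.2.1, ml c v.2.2)
/-- columns -/
def c0 (A : M) : V := (A.1.1, A.2.1.1, A.2.2.1)
def c1 (A : M) : V := (A.1.2.1, A.2.1.2.1, A.2.2.2.1)
def c2 (A : M) : V := (A.1.2.2, A.2.1.2.2, A.2.2.2.2)
def cjV (v : V) : V := (cj v.1, cj v.2.1, cj v.2.2)
/-- Gram check -/
def uni (A : M) : Bool :=
  dot (c0 A) (cjV (c0 A)) == (1, 0) && dot (c0 A) (cjV (c1 A)) == (0, 0) && dot (c0 A) (cjV (c2 A)) == (0, 0) &&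
  dot (c1 A) (cjV (c0 A)) == (0, 0) && dot (c1 A) (cjV (c1 A)) == (1, 0) && dot (c1 A) (cjV (c2 A)) == (0, 0) &&
  dot (c2 A) (cjV (c0 A)) == (0, 0) && dot (c2 A) (cjV (c1 A)) == (0, 0) && dot (c2 A) (cjV (c2 A)) == (1, 0)
def sb (x y : E) : E := ad x (ng y)
def det3 (A : M) : E :=
  ad (sb (sb (ml (ml A.1.1 A.2.1.2.1) A.2.2.2.2) (ml (ml A.1.1 A.2.1.2.2) A.2.2.2.1)) (ml (ml A.1.2.1 A.2.1.1) A.2.2.2.2))
    (sb (ad (ml (ml A.1.2.1 A.2.1.2.2) A.2.2.1) (ml (ml A.1.2.2 A.2.1.1) A.2.2.2.1)) (ml (ml A.1.2.2 A.2.1.2.1) A.2.2.1))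
/-- independence of two vectors -/
def ind (u v : V) : Bool :=
  nz (sb (ml u.1 v.2.1) (ml u.2.1 v.1)) || nz (sb (ml u.1 v.2.2) (ml u.2.2 v.1)) || nz (sb (ml u.2.1 v.2.2) (ml u.2.2 v.2.1))

def OL : List V := [((1,0),(0,0),(0,0)),
  ((0,0),(1,0),(0,0)),
  ((1,0),(0,3),(3,0)),
  ((0,0),(0,0),(1,0)),
  ((1,0),(0,2),(1,0)),
  ((1,0),(2,2),(3,3)),
  ((1,0),(3,3),(3,3)),
  ((1,0),(2,0),(0,1)),
  ((1,0),(3,0),(0,3)),
  ((1,0),(0,1),(2,0)),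
  ((1,0),(3,3),(1,1)),
  ((1,0),(2,2),(1,1)),
  ((1,0),(1,0),(0,2)),
  ((1,0),(2,0),(0,3)),
  ((1,0),(0,3),(4,0)),
  ((1,0),(3,3),(2,2)),
  ((1,0),(4,4),(2,3)),
  ((1,0),(0,3),(1,0)),
  ((0,0),(1,0),(4,0)),
  ((1,0),(0,2),(4,0)),
  ((1,0),(4,4),(3,3)),
  ((1,0),(3,3),(4,4)),
  ((1,0),(0,3),(2,0)),
  ((1,0),(0,2),(2,0)),
  ((1,0),(2,2),(2,2)),
  ((1,0),(4,4),(2,2)),
  ((1,0),(1,1),(2,2)),
  ((1,0),(3,0),(0,1)),
  ((1,0),(0,4),(3,0)),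
  ((1,0),(1,1),(3,3)),
  ((1,0),(4,4),(3,2)),
  ((1,0),(0,4),(2,0)),
  ((1,0),(4,1),(4,1)),
  ((1,0),(0,1),(3,0)),
  ((1,0),(2,4),(0,1)),
  ((1,0),(2,2),(4,4)),
  ((1,0),(4,0),(0,2)),
  ((1,0),(4,0),(0,3)),
  ((1,0),(2,0),(0,2)),
  ((1,0),(3,0),(0,2)),
  ((1,0),(3,2),(4,4)),
  ((1,0),(1,0),(4,2)),
  ((1,0),(4,0),(4,2)),
  ((1,0),(2,1),(4,3)),
  ((1,0),(2,3),(4,4)),
  ((1,0),(1,0),(0,3)),
  ((0,0),(1,0),(0,1)),
  ((0,0),(1,0),(0,4)),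
  ((1,0),(0,0),(4,0)),
  ((1,0),(2,0),(0,4)),
  ((1,0),(3,0),(0,4)),
  ((1,0),(1,1),(0,0)),
  ((1,0),(0,2),(3,0)),
  ((1,0),(1,4),(1,4)),
  ((1,0),(0,0),(0,4)),
  ((1,0),(1,0),(1,3)),
  ((1,0),(4,0),(1,3)),
  ((1,0),(3,4),(1,2)),
  ((1,0),(4,3),(3,4)),
  ((1,0),(1,2),(3,4)),
  ((1,0),(1,3),(1,0)),
  ((1,0),(1,3),(4,0)),
  ((1,0),(4,2),(4,0)),
  ((1,0),(0,1),(2,4)),
  ((1,0),(0,0),(1,1)),
  ((1,0),(3,1),(0,1)),
  ((1,0),(4,3),(2,1)),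
  ((1,0),(3,1),(0,4)),
  ((1,0),(2,4),(0,4)),
  ((1,0),(0,1),(3,1)),
  ((1,0),(0,4),(2,4)),
  ((1,0),(4,2),(1,0)),
  ((1,0),(1,4),(4,1)),
  ((1,0),(4,4),(0,0)),
  ((1,0),(4,1),(1,4)),
  ((1,0),(4,0),(0,0)),
  ((0,0),(1,0),(1,1)),
  ((0,0),(1,0),(4,4)),
  ((1,0),(0,0),(4,4)),
  ((1,0),(1,0),(0,0)),
  ((1,0),(1,2),(2,1)),
  ((1,0),(0,0),(1,0)),
  ((1,0),(0,4),(0,0)),
  ((1,0),(0,4),(3,1)),
  ((1,0),(1,1),(3,2)),
  ((1,0),(3,4),(4,3)),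
  ((1,0),(3,2),(1,1)),
  ((1,0),(2,3),(1,1)),
  ((1,0),(4,0),(0,1)),
  ((1,0),(1,1),(4,4)),
  ((1,0),(0,0),(0,1)),
  ((1,0),(2,1),(1,2)),
  ((1,0),(1,1),(2,3)),
  ((1,0),(4,4),(1,1)),
  ((1,0),(0,1),(0,0)),
  ((0,0),(1,0),(1,0)),
  ((1,0),(0,4),(4,0)),
  ((1,0),(0,4),(1,0)),
  ((1,0),(1,0),(0,4)),
  ((1,0),(4,0),(0,4)),
  ((1,0),(0,1),(4,0)),
  ((1,0),(1,1),(1,1)),
  ((1,0),(1,0),(0,1)),
  ((1,0),(4,4),(4,4)),
  ((1,0),(0,1),(1,0))]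

def gA : M := (((0,4),(0,0),(0,0)),((0,0),(1,1),(0,0)),((0,0),(0,0),(1,0)))

def gB : M := (((1,0),(0,0),(0,0)),((0,0),(0,4),(0,0)),((0,0),(0,0),(1,1)))

def gC : M := (((0,0),(0,0),(1,0)),((1,0),(0,0),(0,0)),((0,0),(1,0),(0,0)))

def gD : M := (((4,0),(0,0),(0,0)),((0,0),(0,0),(4,0)),((0,0),(4,0),(0,0)))

def gE : M := (((3,0),(1,1),(4,0)),((0,4),(3,0),(0,4)),((4,0),(1,1),(3,0)))

def gX : M := (((2,0),(0,0),(2,4)),((0,0),(4,0),(0,0)),((3,1),(0,0),(3,0)))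

def gAT : List (ℕ × E) := [(0,(0,4)), (1,(1,1)), (5,(0,4)), (3,(1,0)), (10,(0,4)), (8,(0,4)), (13,(0,4)), (19,(0,4)), (22,(0,4)), (25,(0,4)), (7,(0,4)), (27,(0,4)), (33,(0,4)), (23,(0,4)), (35,(0,4)), (38,(0,4)), (41,(0,4)), (11,(0,4)), (46,(1,1)), (21,(0,4)), (45,(0,4)), (49,(0,4)), (24,(0,4)), (15,(0,4)), (39,(0,4)), (12,(0,4)), (36,(0,4)), (14,(0,4)), (29,(0,4)), (37,(0,4)), (55,(0,4)), (26,(0,4)), (58,(0,4)), (20,(0,4)), (61,(0,4)), (50,(0,4)), (28,(0,4)), (31,(0,4)), (52,(0,4)), (2,(0,4)), (67,(0,4)), (63,(0,4)), (70,(0,4)), (74,(0,4)), (68,(0,4)), (9,(0,4)), (76,(1,1)), (77,(1,1)), (78,(0,4)), (4,(0,4)), (17,(0,4)), (75,(0,4)), (6,(0,4)), (80,(0,4)), (81,(0,4)), (69,(0,4)), (83,(0,4)), (72,(0,4)), (43,(0,4)), (85,(0,4)), (87,(0,4)), (44,(0,4)), (40,(0,4)), (30,(0,4)), (90,(0,4)), (62,(0,4)), (91,(0,4)), (71,(0,4)),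 (60,(0,4)), (16,(0,4)), (84,(0,4)), (86,(0,4)), (59,(0,4)), (79,(0,4)), (66,(0,4)), (82,(0,4)), (95,(1,1)), (18,(1,1)), (54,(0,4)), (94,(0,4)), (57,(0,4)), (64,(0,4)), (51,(0,4)), (92,(0,4)), (56,(0,4)), (53,(0,4)), (65,(0,4)), (34,(0,4)), (96,(0,4)), (99,(0,4)), (48,(0,4)), (32,(0,4)), (42,(0,4)), (102,(0,4)), (73,(0,4)), (47,(1,1)), (89,(0,4)), (101,(0,4)), (104,(0,4)), (97,(0,4)), (103,(0,4)), (88,(0,4)), (100,(0,4)), (98,(0,4)), (93,(0,4))]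

def gBT : List (ℕ × E) := [(0,(1,0)), (1,(0,4)), (6,(1,0)), (3,(1,1)), (11,(1,0)), (13,(1,0)), (8,(1,0)), (14,(1,0)), (23,(1,0)), (26,(1,0)), (27,(1,0)), (7,(1,0)), (28,(1,0)), (22,(1,0)), (21,(1,0)), (39,(1,0)), (42,(1,0)), (10,(1,0)), (47,(0,4)), (35,(1,0)), (37,(1,0)), (50,(1,0)), (15,(1,0)), (24,(1,0)), (38,(1,0)), (36,(1,0)), (12,(1,0)), (19,(1,0)), (20,(1,0)), (45,(1,0)), (56,(1,0)), (25,(1,0)), (59,(1,0)), (29,(1,0)), (62,(1,0)), (49,(1,0)), (33,(1,0)), (9,(1,0)), (2,(1,0)), (52,(1,0)), (68,(1,0)), (70,(1,0)), (63,(1,0)), (53,(1,0)), (67,(1,0)), (31,(1,0)), (77,(0,4)), (76,(0,4)), (78,(1,0)), (17,(1,0)), (4,(1,0)), (79,(1,0)), (5,(1,0)), (66,(1,0)), (81,(1,0)), (83,(1,0)), (69,(1,0)), (32,(1,0)), (85,(1,0)), (43,(1,0)), (86,(1,0)), (40,(1,0)), (44,(1,0)), (84,(1,0)), (90,(1,0)), (61,(1,0)), (57,(1,0)), (60,(1,0)),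 (71,(1,0)), (92,(1,0)), (30,(1,0)), (87,(1,0)), (58,(1,0)), (75,(1,0)), (80,(1,0)), (94,(1,0)), (18,(0,4)), (95,(0,4)), (54,(1,0)), (82,(1,0)), (91,(1,0)), (64,(1,0)), (73,(1,0)), (16,(1,0)), (55,(1,0)), (74,(1,0)), (34,(1,0)), (65,(1,0)), (100,(1,0)), (98,(1,0)), (48,(1,0)), (72,(1,0)), (41,(1,0)), (88,(1,0)), (51,(1,0)), (46,(0,4)), (103,(1,0)), (93,(1,0)), (97,(1,0)), (104,(1,0)), (89,(1,0)), (102,(1,0)), (96,(1,0)), (99,(1,0)), (101,(1,0))]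

def gCT : List (ℕ × E) := [(1,(1,0)), (3,(1,0)), (7,(3,0)), (0,(1,0)), (12,(1,0)), (14,(3,3)), (17,(3,3)), (20,(0,1)), (21,(0,3)), (8,(2,0)), (28,(1,1)), (31,(1,1)), (24,(0,2)), (10,(0,3)), (36,(4,0)), (19,(2,2)), (43,(2,3)), (45,(1,0)), (48,(4,0)), (37,(4,0)), (2,(3,3)), (9,(4,4)), (50,(2,0)), (27,(2,0)), (4,(2,2)), (23,(2,2)), (52,(2,2)), (25,(0,1)), (13,(3,0)), (22,(3,3)), (57,(3,2)), (39,(2,0)), (60,(4,1)), (38,(3,0)), (16,(0,1)), (33,(4,4)), (5,(0,2)), (15,(0,3)), (35,(0,2)), (11,(0,2)), (69,(4,4)), (53,(4,2)), (72,(4,2)), (34,(4,3)), (63,(4,4)), (6,(0,3)), (78,(0,1)), (64,(0,4)), (75,(4,0)), (26,(0,4)), (29,(0,4)), (76,(1,0)), (49,(3,0)), (71,(1,4)), (51,(0,4)), (32,(1,3)), (74,(1,3)), (65,(1,2)), (86,(3,4)), (40,(3,4)), (55,(1,0)), (42,(4,0)), (56,(4,0)), (66,(2,4)), (82,(1,1)), (30,(0,1)), (44,(2,1)), (92,(0,4)),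 (84,(0,4)), (59,(3,1)), (58,(2,4)), (41,(1,0)), (61,(4,1)), (77,(1,0)), (62,(1,4)), (18,(1,0)), (54,(1,1)), (90,(4,4)), (94,(4,4)), (95,(1,0)), (87,(2,1)), (79,(1,0)), (47,(1,0)), (80,(3,1)), (85,(3,2)), (68,(4,3)), (70,(1,1)), (83,(1,1)), (93,(0,1)), (100,(4,4)), (73,(0,1)), (67,(1,2)), (91,(2,3)), (96,(1,1)), (46,(1,0)), (81,(1,0)), (88,(4,0)), (98,(1,0)), (101,(0,4)), (89,(0,4)), (99,(4,0)), (97,(1,1)), (103,(0,1)), (104,(4,4)), (102,(1,0))]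

def gDT : List (ℕ × E) := [(0,(4,0)), (3,(4,0)), (8,(4,0)), (1,(4,0)), (12,(4,0)), (15,(4,0)), (6,(4,0)), (9,(4,0)), (2,(4,0)), (7,(4,0)), (29,(4,0)), (26,(4,0)), (4,(4,0)), (22,(4,0)), (37,(4,0)), (5,(4,0)), (44,(4,0)), (45,(4,0)), (18,(1,0)), (36,(4,0)), (21,(4,0)), (20,(4,0)), (13,(4,0)), (38,(4,0)), (24,(4,0)), (35,(4,0)), (11,(4,0)), (33,(4,0)), (50,(4,0)), (10,(4,0)), (40,(4,0)), (49,(4,0)), (32,(4,0)), (27,(4,0)), (63,(4,0)), (25,(4,0)), (19,(4,0)), (14,(4,0)), (23,(4,0)), (52,(4,0)), (30,(4,0)), (71,(4,0)), (62,(4,0)), (66,(4,0)), (16,(4,0)), (17,(4,0)), (77,(0,4)), (76,(0,1)), (75,(4,0)), (31,(4,0)), (28,(4,0)), (64,(4,0)), (39,(4,0)), (53,(4,0)), (82,(4,0)), (60,(4,0)), (61,(4,0)), (59,(4,0)), (85,(4,0)), (57,(4,0)), (55,(4,0)), (56,(4,0)), (42,(4,0)), (34,(4,0)), (51,(4,0)), (69,(4,0)), (43,(4,0)), (83,(4,0)),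 (70,(4,0)), (65,(4,0)), (68,(4,0)), (41,(4,0)), (74,(4,0)), (78,(4,0)), (72,(4,0)), (48,(4,0)), (47,(4,4)), (46,(1,1)), (73,(4,0)), (81,(4,0)), (91,(4,0)), (79,(4,0)), (54,(4,0)), (67,(4,0)), (86,(4,0)), (58,(4,0)), (84,(4,0)), (92,(4,0)), (100,(4,0)), (93,(4,0)), (94,(4,0)), (80,(4,0)), (87,(4,0)), (89,(4,0)), (90,(4,0)), (95,(4,0)), (99,(4,0)), (98,(4,0)), (97,(4,0)), (96,(4,0)), (88,(4,0)), (101,(4,0)), (104,(4,0)), (103,(4,0)), (102,(4,0))]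

def gET : List (ℕ × E) := [(2,(3,0)), (4,(1,1)), (0,(2,0)), (9,(4,0)), (1,(0,4)), (16,(0,4)), (18,(2,3)), (21,(0,1)), (24,(1,0)), (3,(4,0)), (30,(2,2)), (32,(2,1)), (20,(4,4)), (34,(0,4)), (28,(1,0)), (40,(1,1)), (5,(1,1)), (17,(4,0)), (6,(2,1)), (22,(2,0)), (12,(0,1)), (7,(4,4)), (19,(3,0)), (23,(4,0)), (8,(1,0)), (51,(1,2)), (53,(1,4)), (54,(1,2)), (14,(1,0)), (44,(0,3)), (10,(0,2)), (52,(2,0)), (11,(2,3)), (33,(4,0)), (13,(1,1)), (64,(4,3)), (65,(2,2)), (66,(2,1)), (47,(3,1)), (41,(1,1)), (15,(0,4)), (39,(0,4)), (73,(3,2)), (57,(0,4)), (29,(3,3)), (75,(4,3)), (74,(1,0)), (38,(1,2)), (48,(4,0)), (55,(0,3)), (59,(1,4)), (25,(3,1)), (31,(3,0)), (26,(4,2)), (27,(3,1)), (49,(3,3)), (84,(1,1)), (43,(1,1)), (72,(1,0)), (50,(4,2)), (71,(0,1)), (88,(2,1)), (89,(1,4)), (69,(0,1)), (35,(2,4)), (36,(0,2)), (37,(2,3)), (87,(0,4)),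 (78,(1,3)), (63,(4,4)), (93,(2,1)), (60,(4,4)), (58,(1,0)), (42,(3,4)), (46,(1,0)), (45,(2,4)), (76,(4,0)), (96,(2,2)), (68,(4,1)), (92,(4,1)), (95,(4,4)), (97,(2,0)), (82,(4,0)), (98,(1,4)), (56,(0,4)), (99,(3,0)), (90,(3,2)), (67,(1,1)), (61,(2,3)), (62,(4,2)), (86,(3,4)), (101,(3,0)), (79,(1,3)), (70,(2,3)), (100,(2,0)), (80,(0,1)), (77,(0,2)), (81,(3,0)), (83,(4,2)), (85,(2,0)), (94,(3,0)), (91,(2,0)), (102,(4,0)), (103,(4,0)), (104,(1,0))]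

def par : List (ℕ × ℕ) := [(0,0), (2,0), (4,0), (2,1), (4,1), (0,2), (1,2), (2,2), (3,2), (4,3), (0,4), (1,4), (2,4), (1,5), (2,5), (3,5), (4,5), (2,6), (4,6), (0,7), (2,7), (4,7), (0,8), (1,8), (4,8), (0,9), (1,9), (1,10), (2,10), (3,10), (4,10), (2,11), (4,11), (0,12), (4,13), (0,14), (2,14), (3,14), (0,15), (1,15), (4,15), (0,16), (1,16), (2,16), (3,16), (2,17), (0,18), (1,18), (2,18), (0,21), (1,21), (4,25), (2,26), (4,26), (4,27), (0,30), (1,30), (2,30), (0,32), (1,32), (2,32), (0,34), (1,34), (3,34), (4,35), (4,36), (4,37), (0,40), (1,40), (2,40), (1,41), (3,41), (2,42), (4,42), (0,43), (4,45), (0,46), (1,46), (2,46), (1,51), (0,53), (0,54), (3,54), (1,55), (4,56), (1,58), (2,58), (0,60), (4,61), (4,62), (0,64), (0,66), (2,67), (4,70), (1,75), (0,76), (4,77), (4,81), (4,83), (4,85), (1,88), (4,91), (0,93), (1,96), (0,98)]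

def chk (A : M) (T : List (ℕ × E)) : Bool :=
  (List.range 105).all (fun i => let t := T.getD i (0, (0, 0)); decide (t.1 < 105) && nz t.2 &&
    mv A (OL.getD i ((0,0),(0,0),(0,0))) == sm t.2 (OL.getD t.1 ((0,0),(0,0),(0,0))))

theorem chkA : chk gA gAT = true := by decide +kernel
theorem chkB : chk gB gBT = true := by decide +kernel
theorem chkC : chk gC gCT = true := by decide +kernel
theorem chkD : chk gD gDT = true := by decide +kernel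
theorem chkE : chk gE gET = true := by decide +kernel

theorem uniA : uni gA = true := by decide +kernel
theorem uniB : uni gB = true := by decide +kernel
theorem uniC : uni gC = true := by decide +kernel
theorem uniD : uni gD = true := by decide +kernel
theorem uniE : uni gE = true := by decide +kernel
theorem uniX : uni gX = true := by decide +kernel

theorem detA : det3 gA = (1, 0) := by decide +kernel
theorem detB : det3 gB = (1, 0) := by decide +kernel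
theorem detC : det3 gC = (1, 0) := by decide +kernel
theorem detD : det3 gD = (1, 0) := by decide +kernel
theorem detE : det3 gE = (1, 0) := by decide +kernel
theorem detX : det3 gX = (1, 0) := by decide +kernel

def tabs : ℕ → List (ℕ × E)
  | 0 => gAT
  | 1 => gBT
  | 2 => gCT
  | 3 => gDT
  | _ => gET

/-- the spanning tree -/
theorem tree : ((List.range 105).all (fun i => i == 0 || (decide ((par.getD i (0, 0)).2 < i) &&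
    (((tabs (par.getD i (0, 0)).1).getD (par.getD i (0, 0)).2 (0, (0, 0))).1 == i)))) = true := by
  decide +kernel

theorem pairs : ((List.range 105).all (fun i => (List.range i).all (fun j =>
    ind (OL.getD i ((0,0),(0,0),(0,0))) (OL.getD j ((0,0),(0,0),(0,0)))))) = true := by
  decide +kernel

theorem outX : ((List.range 105).all (fun i =>
    ind (mv gX (OL.getD 0 ((0,0),(0,0),(0,0)))) (OL.getD i ((0,0),(0,0),(0,0))))) = true := by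
  decide +kernel

end H17.U35
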