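import Mathlib
import Cfsg.Agent.Lib.H17.U35F

/-!
The 45-point configuration of the three-dimensional unitary space over the field with 25 elements (codes).
-/

set_option autoImplicit false
set_option linter.unusedSectionVars false
set_option linter.unusedVariables false

namespace H17.U45

open H17.U35 Matrix

/-- the points -/
def L : List ℕ := [142, 143, 145, 3142, 3143, 3145, 3151, 3180, 3205, 3229, 3252, 3253, 3260, 3270, 3284, 3322, 3348,
  3356, 3380, 3413, 3439, 3441, 3442, 3446, 3461, 3468, 3469, 3474, 3487, 3515, 3537, 3550, 3562, 3568, 3575, 3588,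
  3592, 3613, 3625, 3630, 3645, 3662, 3682, 3708, 3738]

def c0 (e : ℕ) : ℕ := e / 625
def c1 (e : ℕ) : ℕ := e / 25 % 25
def c2 (e : ℕ) : ℕ := e % 25

def lead (a b c : ℕ) : ℕ := bif a == 0 then (bif b == 0 then c else b) else a

def invN (u : ℕ) : ℕ := mulN (mulN (mulN (p2 (p2 (p2 (p2 u)))) (p2 (p2 u))) (p2 u)) u

def okv (a b c : ℕ) : Bool :=
  (invN (lead a b c) != 0) && L.contains (mulN (invN (lead a b c)) a * 625 + mulN (invN (lead a b c)) b * 25 +
    mulN (invN (lead a b c)) c)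

def row (m0 m1 m2 e : ℕ) : ℕ := addN (addN (mulN m0 (c0 e)) (mulN m1 (c1 e))) (mulN m2 (c2 e))

def chk (m00 m01 m02 m10 m11 m12 m20 m21 m22 : ℕ) : Bool :=
  L.all fun e => okv (row m00 m01 m02 e) (row m10 m11 m12 e) (row m20 m21 m22 e)

theorem chkX : chk 5 0 0 0 12 0 0 0 13 = true := by decide +kernel
theorem chkY : chk 0 0 5 5 0 0 0 5 0 = true := by decide +kernel
theorem chkP : chk 20 0 0 0 0 20 0 20 0 = true := by decide +kernel
theorem chkS0 : chk 5 5 5 5 12 13 5 13 12 = true := by decide +kernel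
theorem chkS1 : chk 5 13 13 12 12 13 12 13 12 = true := by decide +kernel
theorem chkS2 : chk 5 12 12 13 12 13 13 13 12 = true := by decide +kernel
theorem chkT : chk 0 4 4 1 10 15 1 15 10 = true := by decide +kernel

theorem L_lt : ∀ e ∈ L, e / 625 < 25 := by decide +kernel
theorem L_ne : ∀ e ∈ L, c0 e = 0 → c1 e ≠ c2 e := by decide +kernel

variable {F : Type*} [Field F] [Fintype F]

def vec (r : F) (e : ℕ) : Fin 3 → F := ![ph r (c0 e), ph r (c1 e), ph r (c2 e)]

/-- the configuration -/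
def Om (r : F) (x : Fin 3 → F) : Prop := ∃ l : F, l ≠ 0 ∧ ∃ e ∈ L, x = l • vec r e

theorem ph_zero (r : F) : ph r 0 = 0 := by simp [ph]

theorem okv_sound {r : F} (h5 : (5 : F) = 0) (hr : r * r = 2) {a b c : ℕ} (h : okv a b c = true) {l : F} (hl : l ≠ 0) :
    Om r (l • ![ph r a, ph r b, ph r c]) := by
  rw [okv, Bool.and_eq_true] at h
  obtain ⟨hk, hL⟩ := h
  set k := invN (lead a b c) with hkd
  have hk0 : k ≠ 0 := by simpa using hk
  have hk25 : k < 25 := mulN_lt _ _
  have hphk : ph r k ≠ 0 := by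
    intro h0
    exact hk0 (ph_inj h5 hr hk25 (by norm_num) (h0.trans (ph_zero r).symm))
  refine ⟨l * (ph r k)⁻¹, mul_ne_zero hl (inv_ne_zero hphk), _, List.contains_iff_mem.1 hL, ?_⟩
  have e0 : c0 (mulN k a * 625 + mulN k b * 25 + mulN k c) = mulN k a := by
    have h1 := mulN_lt k b
    have h2 := mulN_lt k c
    unfold c0; omega
  have e1 : c1 (mulN k a * 625 + mulN k b * 25 + mulN k c) = mulN k b := by
    have h1 := mulN_lt k b
    have h2 := mulN_lt k c
    unfold c1; omega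
  have e2 : c2 (mulN k a * 625 + mulN k b * 25 + mulN k c) = mulN k c := by
    have h1 := mulN_lt k b
    have h2 := mulN_lt k c
    unfold c2; omega
  rw [vec, e0, e1, e2, ph_mul h5 hr, ph_mul h5 hr, ph_mul h5 hr]
  ext i
  fin_cases i <;> simp <;> field_simp

theorem chk_sound {r : F} (h5 : (5 : F) = 0) (hr : r * r = 2) {m00 m01 m02 m10 m11 m12 m20 m21 m22 : ℕ}
    (h : chk m00 m01 m02 m10 m11 m12 m20 m21 m22 = true) {x : Fin 3 → F} (hx : Om r x) :
    Om r (!![ph r m00, ph r m01, ph r m02; ph r m10, ph r m11, ph r m12; ph r m20, ph r m21, ph r m22] *ᵥ x) := by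
  obtain ⟨l, hl, e, he, rfl⟩ := hx
  have h1 := List.all_eq_true.1 h e he
  have h2 := okv_sound h5 hr h1 hl
  convert h2 using 1
  rw [Matrix.mulVec_smul]
  congr 1
  simp only [row, ph_add h5, ph_mul h5 hr, vec]
  ext i
  fin_cases i <;> simp [Matrix.mulVec, dotProduct, Fin.sum_univ_three]

/-- matrices preserving the configuration -/
def St (r : F) : Submonoid (Matrix (Fin 3) (Fin 3) F) where
  carrier := {A | ∀ x, Om r x → Om r (A *ᵥ x)}
  one_mem' := fun x hx => by rwa [Matrix.one_mulVec]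
  mul_mem' := by
    intro A B hA hB x hx
    rw [← Matrix.mulVec_mulVec]
    exact hA _ (hB _ hx)

theorem Om_smul {r : F} {l : F} (hl : l ≠ 0) {x : Fin 3 → F} (hx : Om r x) : Om r (l • x) := by
  obtain ⟨k, hk, e, he, rfl⟩ := hx
  exact ⟨l * k, mul_ne_zero hl hk, e, he, by rw [smul_smul]⟩

theorem smul_mem {r : F} {l : F} (hl : l ≠ 0) {A : Matrix (Fin 3) (Fin 3) F} (hA : A ∈ St r) : l • A ∈ St r := by
  intro x hx
  rw [Matrix.smul_mulVec]
  exact Om_smul hl (hA x hx)

section omega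
variable {w : F} (h5 : (5 : F) = 0) (hw : w ^ 2 + w + 1 = 0)
include h5 hw

theorem r_sq : (3 * w + 4) * (3 * w + 4) = 2 := by
  linear_combination 9 * hw + (3 * w + 1) * h5

omit hw in
theorem e12 : ph (3 * w + 4) 12 = w := by
  simp only [ph]
  norm_num
  linear_combination (w + 2) * h5

theorem e13 : ph (3 * w + 4) 13 = w ^ 2 := by
  simp only [ph]
  norm_num
  linear_combination (2 * w + 3) * h5 - hw

omit h5 hw in
theorem e5 : ph (3 * w + 4) 5 = 1 := by
  simp [ph]

omit hw in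
theorem e20 : ph (3 * w + 4) 20 = -1 := by
  simp only [ph]
  norm_num
  linear_combination h5

theorem X_mem : (!![1, 0, 0; 0, w, 0; 0, 0, w ^ 2] : Matrix (Fin 3) (Fin 3) F) ∈ St (3 * w + 4) := by
  intro x hx
  have := chk_sound h5 (r_sq h5 hw) chkX hx
  rwa [e5, e12 h5, e13 h5 hw, ph_zero] at this

theorem Y_mem : (!![0, 0, 1; 1, 0, 0; 0, 1, 0] : Matrix (Fin 3) (Fin 3) F) ∈ St (3 * w + 4) := by
  intro x hx
  have := chk_sound h5 (r_sq h5 hw) chkY hx
  rwa [e5, ph_zero] at this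

theorem P_mem : (!![-1, 0, 0; 0, 0, -1; 0, -1, 0] : Matrix (Fin 3) (Fin 3) F) ∈ St (3 * w + 4) := by
  intro x hx
  have := chk_sound h5 (r_sq h5 hw) chkP hx
  rwa [e20 h5, ph_zero] at this

theorem S0_mem : (!![1, 1, 1; 1, w, w ^ 2; 1, w ^ 2, w] : Matrix (Fin 3) (Fin 3) F) ∈ St (3 * w + 4) := by
  intro x hx
  have := chk_sound h5 (r_sq h5 hw) chkS0 hx
  rwa [e5, e12 h5, e13 h5 hw] at this

theorem S1_mem : (!![1, w ^ 2, w ^ 2; w, w, w ^ 2; w, w ^ 2, w] : Matrix (Fin 3) (Fin 3) F) ∈ St (3 * w + 4) := by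
  intro x hx
  have := chk_sound h5 (r_sq h5 hw) chkS1 hx
  rwa [e5, e12 h5, e13 h5 hw] at this

theorem S2_mem : (!![1, w, w; w ^ 2, w, w ^ 2; w ^ 2, w ^ 2, w] : Matrix (Fin 3) (Fin 3) F) ∈ St (3 * w + 4) := by
  intro x hx
  have := chk_sound h5 (r_sq h5 hw) chkS2 hx
  rwa [e5, e12 h5, e13 h5 hw] at this

theorem not_Om : ¬ Om (3 * w + 4) (![0, 1, 1] : Fin 3 → F) := by
  rintro ⟨l, hl, e, he, hx⟩
  have hr := r_sq h5 hw
  have x0 := congrFun hx 0
  have x1 := congrFun hx 1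
  have x2 := congrFun hx 2
  simp only [vec, Pi.smul_apply, smul_eq_mul, Matrix.cons_val_zero, Matrix.cons_val_one, Matrix.cons_val] at x0 x1 x2
  have h0 : ph (3 * w + 4) (c0 e) = 0 := by
    rcases mul_eq_zero.1 x0.symm with h | h
    · exact absurd h hl
    · exact h
  have h0' : c0 e = 0 := ph_inj h5 hr (L_lt e he) (by norm_num) (h0.trans (ph_zero _).symm)
  apply L_ne e he h0'
  apply ph_inj h5 hr (Nat.mod_lt _ (by norm_num)) (Nat.mod_lt _ (by norm_num))
  exact mul_left_cancel₀ hl (x1.symm.trans x2)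

theorem Om_base : Om (3 * w + 4) (![0, 1, -1] : Fin 3 → F) := by
  refine ⟨1, one_ne_zero, 145, by decide, ?_⟩
  have e : vec (3 * w + 4) 145 = ![ph (3 * w + 4) 0, ph (3 * w + 4) 5, ph (3 * w + 4) 20] := rfl
  rw [e, ph_zero, e5, e20 h5, one_smul]

end omega

end H17.U45
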